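import Groth.Agent.H20Red.Points
import Groth.Agent.H21Hom.SpecGrp
import Groth.Prelude.Def_CoactBr
import Groth.Prelude.Def_W4bk4git07Quot

/-!
Actions of affine groups on affine schemes are given by coactions.
-/

set_option autoImplicit false
set_option linter.style.haveILetI false
set_option backward.isDefEq.respectTransparency false

universe u v w

open CategoryTheory MonoidalCategory CartesianMonoidalCategory MonObj GrpObj AlgebraicGeometry
open scoped TensorProduct

namespace Groth.Agent.H20LRQ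

noncomputable section

section Action

variable {S : Scheme.{u}} {G X : Over S} [GrpObj G] (a : AlgGrp.Action G X)

theorem lift_one_act {T : Over S} (x : T ⟶ X) : lift (1 : T ⟶ G) x ≫ a.act = x := by
  rw [Hom.one_def, ← lift_whiskerRight, Category.assoc, a.one_act, lift_leftUnitor_hom]

theorem lift_mul_act {T : Over S} (g h : T ⟶ G) (x : T ⟶ X) :
    lift (g * h) x ≫ a.act = lift g (lift h x ≫ a.act) ≫ a.act := by
  rw [Hom.mul_def, ← lift_whiskerRight, Category.assoc, a.mul_act, lift_lift_associator_hom_assoc,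
    lift_whiskerLeft_assoc]

/-- The right action attached to a left action, in points: `(x, g) ↦ g⁻¹ · x`. -/
def rightAct : X ⊗ G ⟶ X := lift (snd X G)⁻¹ (fst X G) ≫ a.act

theorem lift_rightAct {T : Over S} (x : T ⟶ X) (g : T ⟶ G) :
    lift x g ≫ rightAct a = lift g⁻¹ x ≫ a.act := by
  rw [rightAct, ← Category.assoc, comp_lift, GrpObj.comp_inv, lift_snd, lift_fst]

variable {G' X' : Over S} [GrpObj G'] (v : G ≅ G') [IsMonHom v.inv] (u : X ≅ X')

/-- The transported right action. -/
def conjAct : X' ⊗ G' ⟶ X' := (u.inv ⊗ₘ v.inv) ≫ rightAct a ≫ u.hom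

theorem lift_conjAct {T : Over S} (x : T ⟶ X') (g : T ⟶ G') :
    lift x g ≫ conjAct a v u = lift (g ≫ v.inv)⁻¹ (x ≫ u.inv) ≫ a.act ≫ u.hom := by
  rw [conjAct, lift_map_assoc, ← Category.assoc, lift_rightAct, Category.assoc]

theorem conjAct_one {T : Over S} (x : T ⟶ X') : lift x (1 : T ⟶ G') ≫ conjAct a v u = x := by
  rw [lift_conjAct, MonObj.one_comp, inv_one, ← Category.assoc, lift_one_act, Category.assoc, Iso.inv_hom_id,
    Category.comp_id]

theorem conjAct_assoc {T : Over S} (x : T ⟶ X') (g h : T ⟶ G') :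
    lift (lift x g ≫ conjAct a v u) h ≫ conjAct a v u = lift x (g * h) ≫ conjAct a v u := by
  rw [lift_conjAct, lift_conjAct, lift_conjAct, MonObj.mul_comp, _root_.mul_inv_rev, Category.assoc,
    Category.assoc, Iso.hom_inv_id, Category.comp_id]
  rw [← Category.assoc, ← Category.assoc (lift _ (x ≫ u.inv)), ← lift_mul_act]

theorem invariant_points {Z : Over S} {ψ : X ⟶ Z} (h : GIT.IsInvariant a ψ) {T : Over S} (g : T ⟶ G) (x : T ⟶ X) :
    lift g x ≫ a.act ≫ ψ = x ≫ ψ := by
  rw [h, lift_snd_assoc]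

end Action

variable {k : Type u} [CommRing k] {A B : Type u} [CommRing A] [CommRing B] [Algebra k B]

variable (k A B) in
/-- The universal pair of points. -/
def univPair [Algebra k A] : CoactBr.sp k (B ⊗[k] A) ⟶ CoactBr.sp k B ⊗ CoactBr.sp k A :=
  lift (CoactBr.pt (Algebra.TensorProduct.includeLeft : B →ₐ[k] B ⊗[k] A))
    (CoactBr.pt (Algebra.TensorProduct.includeRight : A →ₐ[k] B ⊗[k] A))

theorem isIso_univPair [Algebra k A] : IsIso (univPair k A B) := by
  letI : (algSpec (CommRingCat.of k)).Braided := braidedAlgSpec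
  have h := CoactBr.lift_pt_pt (Algebra.TensorProduct.includeLeft : B →ₐ[k] B ⊗[k] A)
    (Algebra.TensorProduct.includeRight : A →ₐ[k] B ⊗[k] A)
  rw [show Algebra.TensorProduct.lift (Algebra.TensorProduct.includeLeft : B →ₐ[k] B ⊗[k] A)
      (Algebra.TensorProduct.includeRight : A →ₐ[k] B ⊗[k] A) (fun _ _ => .all _ _) = AlgHom.id k (B ⊗[k] A) from
    Algebra.TensorProduct.ext' fun b a => by simp, CoactBr.pt_id] at h
  have hi : IsIso (univPair k A B ≫ Functor.LaxMonoidal.μ (algSpec (CommRingCat.of k)) (Opposite.op (CommAlgCat.of k B))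
      (Opposite.op (CommAlgCat.of k A))) := by
    show IsIso (lift (CoactBr.pt (Algebra.TensorProduct.includeLeft : B →ₐ[k] B ⊗[k] A))
      (CoactBr.pt (Algebra.TensorProduct.includeRight : A →ₐ[k] B ⊗[k] A)) ≫ _)
    rw [h]
    infer_instance
  exact IsIso.of_isIso_comp_right (univPair k A B) (Functor.LaxMonoidal.μ (algSpec (CommRingCat.of k))
    (Opposite.op (CommAlgCat.of k B)) (Opposite.op (CommAlgCat.of k A)))

theorem univPair_hom_ext [Algebra k A] {Z : Over (Spec (CommRingCat.of k))}
    {f g : CoactBr.sp k B ⊗ CoactBr.sp k A ⟶ Z} (h : univPair k A B ≫ f = univPair k A B ≫ g) : f = g :=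
  haveI := isIso_univPair (k := k) (A := A) (B := B)
  (cancel_epi _).1 h

theorem lift_pt_pt_eq [Algebra k A] {K : Type u} [CommRing K] [Algebra k K] (x : B →ₐ[k] K) (g : A →ₐ[k] K) :
    lift (CoactBr.pt x) (CoactBr.pt g) =
      CoactBr.pt (Algebra.TensorProduct.lift x g fun _ _ => .all _ _) ≫ univPair k A B := by
  rw [univPair, comp_lift, ← CoactBr.pt_comp, ← CoactBr.pt_comp]
  congr 2 <;> exact AlgHom.ext fun a => by simp

theorem univPair_ract [Bialgebra k A] [HopfRep.Comod k A B] [GLin.IsCoactAlg k A B] :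
    univPair k A B ≫ CoactBr.ract k A B = CoactBr.pt (GLin.coactAlgHom k A B) := by
  rw [univPair, CoactBr.lift_pt_ract]
  congr 1
  rw [show Algebra.TensorProduct.lift (Algebra.TensorProduct.includeLeft : B →ₐ[k] B ⊗[k] A)
      (Algebra.TensorProduct.includeRight : A →ₐ[k] B ⊗[k] A) (fun _ _ => .all _ _) = AlgHom.id k (B ⊗[k] A) from
    Algebra.TensorProduct.ext' fun b a => by simp, AlgHom.id_comp]

/-- A unital associative right action on `Spec B` is given by a coaction. -/
theorem exists_coaction [Bialgebra k A] (r : CoactBr.sp k B ⊗ CoactBr.sp k A ⟶ CoactBr.sp k B)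
    (hone : ∀ {T : Over (Spec (CommRingCat.of k))} (x : T ⟶ CoactBr.sp k B), lift x 1 ≫ r = x)
    (hass : ∀ {T : Over (Spec (CommRingCat.of k))} (x : T ⟶ CoactBr.sp k B) (g h : T ⟶ CoactBr.sp k A),
      lift (lift x g ≫ r) h ≫ r = lift x (g * h) ≫ r) :
    ∃ (c : HopfRep.Comod k A B) (_ : @GLin.IsCoactAlg k _ A _ _ B _ _ c), @CoactBr.ract k A B _ _ _ _ _ c _ = r := by
  obtain ⟨ρ, hρ⟩ := H20Red.eq_pt_of_isoSpec (univPair k A B ≫ r)
  have key : ∀ {K : Type u} [CommRing K] [Algebra k K] (x : B →ₐ[k] K) (g : A →ₐ[k] K),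
      lift (CoactBr.pt x) (CoactBr.pt g) ≫ r =
        CoactBr.pt ((Algebra.TensorProduct.lift x g fun _ _ => .all _ _).comp ρ) := by
    intro K _ _ x g
    rw [lift_pt_pt_eq, Category.assoc, ← hρ, CoactBr.pt_comp]
  have hcounit : (Algebra.TensorProduct.map (AlgHom.id k B) (Bialgebra.counitAlgHom k A)).comp ρ =
      (Algebra.TensorProduct.rid k k B).symm.toAlgHom := by
    have h := hone (𝟙 (CoactBr.sp k B))
    rw [← CoactBr.pt_id, CoactBr.one_eq_pt, key] at h
    have h' := CoactBr.pt_injective h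
    refine AlgHom.ext fun b => ?_
    refine (Algebra.TensorProduct.rid k k B).injective ?_
    show _ = (Algebra.TensorProduct.rid k k B) ((Algebra.TensorProduct.rid k k B).symm b)
    rw [AlgEquiv.apply_symm_apply]
    refine Eq.trans ?_ (AlgHom.congr_fun h' b)
    show (Algebra.TensorProduct.rid k k B) (Algebra.TensorProduct.map _ _ (ρ b)) =
      Algebra.TensorProduct.lift (AlgHom.id k B) ((Algebra.ofId k B).comp (Bialgebra.counitAlgHom k A))
        (fun _ _ => .all _ _) (ρ b)
    induction ρ b using TensorProduct.induction_on with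
    | zero => simp
    | tmul p q => simp [Algebra.smul_def, mul_comm]
    | add x y hx hy => simp only [map_add, hx, hy]
  have hco : (Algebra.TensorProduct.assoc k k k B A A).toAlgHom.comp
      ((Algebra.TensorProduct.map ρ (AlgHom.id k A)).comp ρ) =
      (Algebra.TensorProduct.map (AlgHom.id k B) (Bialgebra.comulAlgHom k A)).comp ρ := by
    let x : B →ₐ[k] B ⊗[k] (A ⊗[k] A) := Algebra.TensorProduct.includeLeft
    let g : A →ₐ[k] B ⊗[k] (A ⊗[k] A) :=
      (Algebra.TensorProduct.includeRight : A ⊗[k] A →ₐ[k] B ⊗[k] (A ⊗[k] A)).comp Algebra.TensorProduct.includeLeft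
    let h : A →ₐ[k] B ⊗[k] (A ⊗[k] A) :=
      (Algebra.TensorProduct.includeRight : A ⊗[k] A →ₐ[k] B ⊗[k] (A ⊗[k] A)).comp Algebra.TensorProduct.includeRight
    have hh := hass (CoactBr.pt x) (CoactBr.pt g) (CoactBr.pt h)
    rw [key, key, CoactBr.pt_mul_pt, key] at hh
    have e := CoactBr.pt_injective hh
    have e1 : Algebra.TensorProduct.lift ((Algebra.TensorProduct.lift x g fun _ _ => .all _ _).comp ρ) h
        (fun _ _ => .all _ _) =
        (Algebra.TensorProduct.assoc k k k B A A).toAlgHom.comp (Algebra.TensorProduct.map ρ (AlgHom.id k A)) := by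
      refine Algebra.TensorProduct.ext' fun b a => ?_
      simp only [Algebra.TensorProduct.lift_tmul, AlgHom.comp_apply, Algebra.TensorProduct.map_tmul, AlgHom.id_apply]
      induction ρ b using TensorProduct.induction_on with
      | zero => simp
      | tmul p q => simp [x, g, h]
      | add y z hy hz => simp only [map_add, add_mul, TensorProduct.add_tmul, hy, hz]
    have e2 : Algebra.TensorProduct.lift x ((Algebra.TensorProduct.lift g h fun _ _ => .all _ _).comp
        (Bialgebra.comulAlgHom k A)) (fun _ _ => .all _ _) =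
        Algebra.TensorProduct.map (AlgHom.id k B) (Bialgebra.comulAlgHom k A) := by
      refine Algebra.TensorProduct.ext' fun b a => ?_
      simp only [Algebra.TensorProduct.lift_tmul, AlgHom.comp_apply, Algebra.TensorProduct.map_tmul, AlgHom.id_apply]
      induction (Bialgebra.comulAlgHom k A) a using TensorProduct.induction_on with
      | zero => simp
      | tmul p q => simp [x, g, h]
      | add y z hy hz => simp only [map_add, mul_add, TensorProduct.tmul_add, hy, hz]
    rw [e1, e2, AlgHom.comp_assoc] at e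
    exact e
  let c : HopfRep.Comod k A B :=
    { coact := ρ.toLinearMap
      coassoc := LinearMap.ext fun b => AlgHom.congr_fun hco b
      counit_comp := LinearMap.ext fun b => AlgHom.congr_fun hcounit b }
  have hc : @GLin.IsCoactAlg k _ A _ _ B _ _ c := @GLin.IsCoactAlg.mk k _ A _ _ B _ _ c (map_one ρ) (map_mul ρ)
  refine ⟨c, hc, univPair_hom_ext ?_⟩
  letI := c
  haveI := hc
  rw [univPair_ract, ← hρ]
  congr 1

end

noncomputable section

variable {k : Type u} [Field k]

theorem exists_grp_model (G : Over (Spec (CommRingCat.of k))) [GrpObj G] [IsAffine G.left] :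
    ∃ (A : Type u) (_ : CommRing A) (_ : HopfAlgebra k A) (v : G ≅ CoactBr.sp k A),
      IsMonHom v.hom ∧ IsMonHom v.inv := by
  obtain ⟨A, _, _, ⟨e⟩⟩ := H21Hom.exists_hopf_model G
  let v : G ≅ CoactBr.sp k A := (Grp.forget _).mapIso e
  exact ⟨A, ‹_›, ‹_›, v, e.hom.hom.isMonHom_hom, e.inv.hom.isMonHom_hom⟩

theorem exists_affine_model (X : Over (Spec (CommRingCat.of k))) [IsAffine X.left] :
    ∃ (B : Type u) (_ : CommRing B) (_ : Algebra k B), Nonempty (X ≅ CoactBr.sp k B) :=
  letI : Algebra k Γ(X.left, ⊤) := ((Scheme.ΓSpecIso (CommRingCat.of k)).inv ≫ X.hom.appTop).hom.toAlgebra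
  ⟨Γ(X.left, ⊤), inferInstance, inferInstance, ⟨Over.isoMk X.left.isoSpec (H20Red.toSpecΓ_comp X.hom)⟩⟩

/-- An action of an affine group on an affine scheme is given by a coaction. -/
theorem exists_coaction_of_action {G X : Over (Spec (CommRingCat.of k))} [GrpObj G] (a : AlgGrp.Action G X)
    {A : Type u} [CommRing A] [HopfAlgebra k A] {B : Type u} [CommRing B] [Algebra k B]
    (v : G ≅ CoactBr.sp k A) [IsMonHom v.inv] (u : X ≅ CoactBr.sp k B) :
    ∃ (c : HopfRep.Comod k A B) (_ : @GLin.IsCoactAlg k _ A _ _ B _ _ c),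
      @CoactBr.ract k A B _ _ _ _ _ c _ = conjAct a v u :=
  exists_coaction (conjAct a v u) (fun x => conjAct_one a v u x) (fun x g h => conjAct_assoc a v u x g h)

end

end Groth.Agent.H20LRQ
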