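import Groth.Agent.H20LRQ.BaseChange
import Groth.Agent.H20Red.Iso

/-!
Invariant global functions on an affine scheme with an action, in terms of the coaction.
-/

set_option autoImplicit false
set_option linter.style.haveILetI false
set_option linter.unusedSectionVars false
set_option backward.isDefEq.respectTransparency false

universe u

open CategoryTheory Limits MonoidalCategory CartesianMonoidalCategory MonObj GrpObj AlgebraicGeometry
open scoped TensorProduct

namespace Groth.Agent.H20LRQ

noncomputable section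

variable {k : Type u} [Field k] {A : Type u} [CommRing A] [HopfAlgebra k A]
variable {B : Type u} [CommRing B] [Algebra k B] [HopfRep.Comod k A B] [GLin.IsCoactAlg k A B]
variable {G X : Over (Spec (CommRingCat.of k))} [GrpObj G] (a : AlgGrp.Action G X)
  (v : G ≅ CoactBr.sp k A) [IsMonHom v.inv] (u : X ≅ CoactBr.sp k B)
  (hr : CoactBr.ract k A B = conjAct a v u)

/-- Functions on the affine scheme. -/
def fnMap : CommRingCat.of B ⟶ Γ(X.left, ⊤) :=
  (Scheme.ΓSpecIso (CommRingCat.of B)).inv ≫ u.hom.left.appTop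

theorem bijective_fnMap : Function.Bijective (fnMap u).hom := by
  haveI : IsIso u.hom.left := inferInstanceAs (IsIso ((Over.forget _).map u.hom))
  haveI : IsIso (fnMap u) := by unfold fnMap; infer_instance
  exact ConcreteCategory.bijective_of_isIso (fnMap u)

theorem appTop_comp_inv (B' : Type u) [CommRing B'] [Algebra k B'] (f : B →ₐ[k] B') (b : B) :
    (CoactBr.pt f ≫ u.inv).left.appTop.hom ((fnMap u).hom b) =
      (Scheme.ΓSpecIso (CommRingCat.of B')).inv.hom (f b) := by
  have h : (CoactBr.pt f ≫ u.inv).left ≫ u.hom.left = Spec.map (CommRingCat.ofHom f.toRingHom) := by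
    rw [← Over.comp_left, Category.assoc, Iso.inv_hom_id, Category.comp_id]
    rfl
  have h2 : fnMap u ≫ (CoactBr.pt f ≫ u.inv).left.appTop =
      CommRingCat.ofHom f.toRingHom ≫ (Scheme.ΓSpecIso (CommRingCat.of B')).inv := by
    rw [fnMap, Category.assoc, ← Scheme.Hom.comp_appTop, h, Scheme.ΓSpecIso_inv_naturality]
  exact congrArg (fun m : CommRingCat.of B ⟶ _ => m.hom b) h2

include hr in
/-- A global function is invariant exactly when it comes from a fixed element. -/
theorem invariant_fn_iff (b : B) :
    a.act.left.appTop ((fnMap u).hom b) = (snd G X).left.appTop ((fnMap u).hom b) ↔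
      HopfRep.Comod.coact (k := k) (A := A) b = b ⊗ₜ[k] (1 : A) := by
  haveI := isIso_univPt (k := k) (A := A) (B := B) (G := G) (X := X) v u
  haveI : IsIso (univPt (A := A) (B := B) v u).left :=
    inferInstanceAs (IsIso ((Over.forget _).map (univPt (A := A) (B := B) v u)))
  have e : ∀ m : G ⊗ X ⟶ X, ∀ f, (univPt (A := A) (B := B) v u).left.appTop.hom (m.left.appTop.hom f) =
      (univPt (A := A) (B := B) v u ≫ m).left.appTop.hom f := fun m f => by
    rw [Over.comp_left, Scheme.Hom.comp_appTop]
    rfl
  have hinj : Function.Injective (univPt (A := A) (B := B) v u).left.appTop.hom :=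
    (ConcreteCategory.bijective_of_isIso (univPt (A := A) (B := B) v u).left.appTop).1
  rw [← hinj.eq_iff]
  show (univPt (A := A) (B := B) v u).left.appTop.hom (a.act.left.appTop.hom _) =
    (univPt (A := A) (B := B) v u).left.appTop.hom ((snd G X).left.appTop.hom _) ↔ _
  rw [e, e, univPt_act a v u hr, univPt_snd, appTop_comp_inv, appTop_comp_inv,
    (ConcreteCategory.bijective_of_isIso (Scheme.ΓSpecIso (CommRingCat.of (B ⊗[k] A))).inv).1.eq_iff]
  rfl

variable {C : Type u} [CommRing C] [Algebra C B] [Algebra k C] [IsScalarTower k C B]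

theorem appTop_quotMap (c : C) :
    (quotMap (C := C) u).left.appTop.hom ((Scheme.ΓSpecIso (CommRingCat.of C)).inv.hom c) =
      (fnMap u).hom (algebraMap C B c) := by
  have h : (Scheme.ΓSpecIso (CommRingCat.of C)).inv ≫ (quotMap (C := C) u).left.appTop =
      CommRingCat.ofHom (algebraMap C B) ≫ fnMap u := by
    show _ ≫ (u.hom.left ≫ Spec.map (CommRingCat.ofHom (algebraMap C B))).appTop = _
    rw [Scheme.Hom.comp_appTop, fnMap, ← Category.assoc, ← Scheme.ΓSpecIso_inv_naturality, Category.assoc]
  exact congrArg (fun m : CommRingCat.of C ⟶ _ => m.hom c) h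

theorem injective_appTop_quotMap (hC : IsInvRing k A B C) :
    Function.Injective (quotMap (C := C) u).left.appTop := by
  intro x y h
  obtain ⟨c, rfl⟩ := (ConcreteCategory.bijective_of_isIso (Scheme.ΓSpecIso (CommRingCat.of C)).inv).2 x
  obtain ⟨d, rfl⟩ := (ConcreteCategory.bijective_of_isIso (Scheme.ΓSpecIso (CommRingCat.of C)).inv).2 y
  have h' : (fnMap u).hom (algebraMap C B c) = (fnMap u).hom (algebraMap C B d) :=
    ((appTop_quotMap u c).symm.trans h).trans (appTop_quotMap u d)
  exact congrArg _ (hC.injective ((bijective_fnMap u).1 h'))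

include hr in
theorem range_appTop_quotMap (hC : IsInvRing k A B C) :
    Set.range (quotMap (C := C) u).left.appTop =
      {f : Γ(X.left, ⊤) | a.act.left.appTop f = (snd G X).left.appTop f} := by
  ext f
  obtain ⟨b, rfl⟩ := (bijective_fnMap u).2 f
  rw [Set.mem_setOf_eq, invariant_fn_iff a v u hr]
  constructor
  · rintro ⟨x, hx⟩
    obtain ⟨c, rfl⟩ := (ConcreteCategory.bijective_of_isIso (Scheme.ΓSpecIso (CommRingCat.of C)).inv).2 x
    have h' := (appTop_quotMap u c).symm.trans hx
    rw [← (bijective_fnMap u).1 h']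
    exact hC.fixed c
  · intro hb
    obtain ⟨c, rfl⟩ := hC.surjective b hb
    exact ⟨_, appTop_quotMap u c⟩

include hr in
/-- Invariant sets on the scheme give invariant sets on the spectrum. -/
theorem comap_coact_mem {W : Set X.left} (hW : a.act.left.base '' ((snd G X).left.base ⁻¹' W) ⊆ W)
    (P : PrimeSpectrum (B ⊗[k] A))
    (hP : PrimeSpectrum.comap (Algebra.TensorProduct.includeLeftRingHom : B →+* B ⊗[k] A) P ∈ u.inv.left.base ⁻¹' W) :
    PrimeSpectrum.comap (GLin.coactAlgHom k A B).toRingHom P ∈ u.inv.left.base ⁻¹' W := by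
  let P' : ↥(CoactBr.sp k (B ⊗[k] A)).left := P
  have e : ∀ m : G ⊗ X ⟶ X, m.left ((univPt (A := A) (B := B) v u).left P') =
      (univPt (A := A) (B := B) v u ≫ m).left P' := fun m => by
    rw [Over.comp_left, Scheme.Hom.comp_apply]
  have h1 : (univPt (A := A) (B := B) v u).left P' ∈ (snd G X).left.base ⁻¹' W := by
    show (snd G X).left _ ∈ W
    rw [e, univPt_snd]
    exact hP
  have h2 := hW (Set.mem_image_of_mem _ h1)
  change a.act.left ((univPt (A := A) (B := B) v u).left P') ∈ W at h2
  rw [e, univPt_act a v u hr] at h2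
  exact h2

theorem mem_zeroLocus_fnMap {W : Set X.left} {b : B}
    (h : u.inv.left.base ⁻¹' W ⊆ PrimeSpectrum.zeroLocus {b}) {x : X.left} (hx : x ∈ W) :
    x ∈ X.left.zeroLocus (U := ⊤) {(fnMap u).hom b} := by
  let y : ↥(Spec (CommRingCat.of B)) := u.hom.left x
  have hy : y ∈ PrimeSpectrum.zeroLocus {b} := h (by
    show u.inv.left (u.hom.left x) ∈ W
    rw [← Scheme.Hom.comp_apply, ← Over.comp_left, Iso.hom_inv_id]
    exact hx)
  rw [Scheme.mem_zeroLocus_iff]
  intro f hf
  rw [Set.mem_singleton_iff.1 hf]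
  show x ∉ X.left.basicOpen (u.hom.left.appTop.hom ((Scheme.ΓSpecIso (CommRingCat.of B)).inv.hom b))
  rw [← Scheme.preimage_basicOpen_top]
  intro hxm
  have h2 : y ∈ (Spec (CommRingCat.of B)).basicOpen ((Scheme.ΓSpecIso (CommRingCat.of B)).inv b) := hxm
  rw [basicOpen_eq_of_affine] at h2
  exact h2 (hy (Set.mem_singleton b))

end

end Groth.Agent.H20LRQ
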