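import Groth.Agent.H20LRQ.Quot

/-!
Base changes of the quotient of an affine scheme by a linearly reductive group.
-/

set_option autoImplicit false
set_option linter.style.haveILetI false
set_option linter.unusedSectionVars false
set_option backward.isDefEq.respectTransparency false
set_option maxHeartbeats 400000

universe u

open CategoryTheory Limits MonoidalCategory CartesianMonoidalCategory MonObj GrpObj AlgebraicGeometry
open scoped TensorProduct

namespace Groth.Agent.H20LRQ

noncomputable section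

variable {k : Type u} [Field k] {A : Type u} [CommRing A] [HopfAlgebra k A]
variable {B : Type u} [CommRing B] [Algebra k B] [HopfRep.Comod k A B] [GLin.IsCoactAlg k A B]
variable {G X : Over (Spec (CommRingCat.of k))} [GrpObj G] (a : AlgGrp.Action G X)
  (v : G ≅ CoactBr.sp k A) [IsMonHom v.inv] (u : X ≅ CoactBr.sp k B)
  (hr : CoactBr.ract k A B = conjAct a v u)
variable {C : Type u} [CommRing C] [Algebra C B] [Algebra k C] [IsScalarTower k C B]
  (hC : IsInvRing k A B C) {α : A →ₗ[k] k} (hα : H20Comod.IsIntegral α) (h1 : α 1 = 1)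

/-- Over an affine open of the base, the base change of the quotient map is given by the tensor product. -/
theorem isPullback_affine {P Y' : Scheme.{u}} (pr : P ⟶ Spec (CommRingCat.of B)) (p : P ⟶ Y')
    (g : Y' ⟶ Spec (CommRingCat.of C)) (hpb : IsPullback pr p (Spec.map (CommRingCat.ofHom (algebraMap C B))) g)
    {C' : Type u} [CommRing C'] [Algebra C C'] (j : Spec (CommRingCat.of C') ⟶ Y')
    (hj : j ≫ g = Spec.map (CommRingCat.ofHom (algebraMap C C'))) :
    ∃ q : Spec (CommRingCat.of (C' ⊗[C] B)) ⟶ P,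
      IsPullback q (Spec.map (CommRingCat.ofHom
        (Algebra.TensorProduct.includeLeftRingHom : C' →+* C' ⊗[C] B))) p j ∧
      q ≫ pr = Spec.map (CommRingCat.ofHom
        (Algebra.TensorProduct.includeRight : B →ₐ[C] C' ⊗[C] B).toRingHom) := by
  have h := (isPullback_SpecMap_of_isPushout (CommRingCat.ofHom (algebraMap C C'))
    (CommRingCat.ofHom (algebraMap C B))
    (CommRingCat.ofHom (Algebra.TensorProduct.includeLeftRingHom : C' →+* C' ⊗[C] B))
    (CommRingCat.ofHom (Algebra.TensorProduct.includeRight : B →ₐ[C] C' ⊗[C] B).toRingHom)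
    (CommRingCat.isPushout_tensorProduct C C' B)).flip
  rw [← hj] at h
  refine ⟨hpb.lift _ _ (by rw [Category.assoc]; exact h.w), IsPullback.of_right ?_ (hpb.lift_snd _ _ _) hpb,
    hpb.lift_fst _ _ _⟩
  rw [hpb.lift_fst]
  exact h

include hC hα h1 in
/-- The quotient map is universally submersive. -/
theorem isUnivSubmersive_specMap : GIT.IsUnivSubmersive (Spec.map (CommRingCat.ofHom (algebraMap C B))) := by
  intro P Y' pr g p hpb'
  have hpb := hpb'.flip
  have hsurjC : Function.Surjective (Spec.map (CommRingCat.ofHom (algebraMap C B))) := by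
    obtain ⟨E, hE1, -⟩ := exists_retraction hC hα h1
    exact H20Comod.CatQuot.surjective_specMap E hE1
  haveI : Surjective p := MorphismProperty.of_isPullback (P := @Surjective) hpb ⟨hsurjC⟩
  refine (Topology.isQuotientMap_iff_isClosed).2 ⟨p.surjective, fun W => ⟨fun hW => hW.preimage p.continuous,
    fun hW => ?_⟩⟩
  refine (Scheme.isBasis_affineOpens Y').isOpenCover.isClosed_iff_coe_preimage.2 fun U => ?_
  let C' := Γ(Y', U.1)
  let j : Spec C' ⟶ Y' := U.2.fromSpec
  obtain ⟨σc, hσc⟩ := Spec.map_surjective (j ≫ g)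
  letI algC : Algebra C C' := σc.hom.toAlgebra
  letI algk : Algebra k C' := (σc.hom.comp (algebraMap k C)).toAlgebra
  haveI : IsScalarTower k C C' := IsScalarTower.of_algebraMap_eq fun _ => rfl
  obtain ⟨q, hq, -⟩ := isPullback_affine pr p g hpb (C' := C') j hσc.symm
  letI := bcComod (C₀ := C) hC (C' : Type u)
  haveI := isCoactAlg_bcComod (C₀ := C) hC (C' : Type u)
  have hC' : IsInvRing k A ((C' : Type u) ⊗[C] B) (C' : Type u) :=
    ⟨fun c => tmul_one_mem_invariants hC _ c, tmul_one_injective hC _ hα h1,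
      fun x hx => mem_range_of_invariant hC _ hα h1 hx⟩
  have hW' : IsClosed (j ⁻¹' W) := by
    refine isClosed_of_preimage (C := (C' : Type u)) hC' hα h1 ?_
    have : IsClosed (q ⁻¹' (p ⁻¹' W)) := hW.preimage q.continuous
    rw [← Set.preimage_comp, ← TopCat.coe_comp, ← Scheme.Hom.comp_base, hq.w, Scheme.Hom.comp_base, TopCat.coe_comp,
      Set.preimage_comp] at this
    exact this
  have e : (Scheme.Opens.ι (X := Y') U.1 : _ → Y') = j ∘ U.2.isoSpec.hom := by
    rw [← TopCat.coe_comp, ← Scheme.Hom.comp_base, U.2.isoSpec_hom, IsAffineOpen.toSpecΓ_fromSpec]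
  show IsClosed ((Scheme.Opens.ι (X := Y') U.1 : _ → Y') ⁻¹' W)
  rw [e, Set.preimage_comp]
  exact hW'.preimage U.2.isoSpec.hom.continuous

include hr hC hα h1 in
/-- The quotient map is a universal categorical quotient. -/
theorem isUnivCatQuot_quotMap : GIT.IsUnivCatQuot a (quotMap (C := C) u) := by
  refine ⟨isCatQuot_quotMap a v u hr hC hα h1, fun X' Y' pr φ' g _ hpb a' heq hinv => ⟨hinv, fun Z ψ hψ => ?_⟩⟩
  have hpb0 : IsPullback pr.left φ'.left (quotMap (C := C) u).left g.left := hpb.map (Over.forget _)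
  have hpb1 : IsPullback (pr.left ≫ u.hom.left) φ'.left (Spec.map (CommRingCat.ofHom (algebraMap C B))) g.left := by
    haveI : IsIso u.hom.left := inferInstanceAs (IsIso ((Over.forget _).map u.hom))
    refine hpb0.of_iso (Iso.refl _) (asIso u.hom.left) (Iso.refl _) (Iso.refl _) ?_ ?_ ?_ ?_
    · simp
    · simp
    · simp only [quotMap, Over.comp_left, Iso.refl_hom, Category.comp_id, asIso_hom]
      rfl
    · simp
  have key : ∀ U : Y'.left.Opens, IsAffineOpen U → (∃ χ : U.toScheme ⟶ Z.left,
      (φ'.left ∣_ U) ≫ χ = (φ'.left ⁻¹ᵁ U).ι ≫ ψ.left) ∧ Epi (φ'.left ∣_ U) := by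
    intro U hU
    let C' := Γ(Y'.left, U)
    let j : Spec C' ⟶ Y'.left := hU.fromSpec
    obtain ⟨σc, hσc⟩ := Spec.map_surjective (j ≫ g.left)
    letI algC : Algebra C C' := σc.hom.toAlgebra
    letI algk : Algebra k C' := (σc.hom.comp (algebraMap k C)).toAlgebra
    haveI : IsScalarTower k C C' := IsScalarTower.of_algebraMap_eq fun _ => rfl
    obtain ⟨q, hq, hqpr⟩ := isPullback_affine (pr.left ≫ u.hom.left) φ'.left g.left hpb1 (C' := C') j hσc.symm
    letI := bcComod (C₀ := C) hC (C' : Type u)
    haveI := isCoactAlg_bcComod (C₀ := C) hC (C' : Type u)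
    let B' := (C' : Type u) ⊗[C] B
    have hC' : IsInvRing k A B' (C' : Type u) :=
      ⟨fun c => tmul_one_mem_invariants hC _ c, tmul_one_injective hC _ hα h1,
        fun x hx => mem_range_of_invariant hC _ hα h1 hx⟩
    let incR : B →ₐ[k] B' := (Algebra.TensorProduct.includeRight : B →ₐ[C] B').restrictScalars k
    let incL : (C' : Type u) →ₐ[k] B' := Algebra.TensorProduct.includeLeft
    have hqpr' : q ≫ pr.left ≫ u.hom.left = Spec.map (CommRingCat.ofHom incR.toRingHom) := hqpr
    have hqw : q ≫ φ'.left = Spec.map (CommRingCat.ofHom incL.toRingHom) ≫ j := hq.w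
    have hqover : q ≫ X'.hom = Spec.map (CommRingCat.ofHom (algebraMap k B')) := by
      rw [← Over.w pr, ← Over.w u.hom, reassoc_of% hqpr']
      show Spec.map _ ≫ Spec.map (CommRingCat.ofHom (algebraMap k B)) = _
      rw [← Spec.map_comp, ← CommRingCat.ofHom_comp]
      exact congrArg (fun f => Spec.map (CommRingCat.ofHom f)) incR.comp_algebraMap
    let qq : CoactBr.sp k B' ⟶ X' := Over.homMk q hqover
    have hqq : qq ≫ pr = CoactBr.pt incR ≫ u.inv := by
      rw [← cancel_mono u.hom, Category.assoc, Category.assoc, Iso.inv_hom_id, Category.comp_id]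
      exact Over.OverMorphism.ext hqpr'
    have hequiv : lift (CoactBr.pt (Algebra.TensorProduct.includeRight : A →ₐ[k] B' ⊗[k] A) ≫ v.inv)⁻¹
        (CoactBr.pt (Algebra.TensorProduct.includeLeft : B' →ₐ[k] B' ⊗[k] A) ≫ qq) ≫ a'.act =
        CoactBr.pt (GLin.coactAlgHom k A B') ≫ qq := by
      refine hpb.hom_ext ?_ ?_
      · rw [Category.assoc, heq, lift_whiskerLeft_assoc, Category.assoc, hqq, Category.assoc, hqq,
          ← Category.assoc (CoactBr.pt _) (CoactBr.pt incR) u.inv, ← CoactBr.pt_comp,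
          ← Category.assoc (CoactBr.pt _) (CoactBr.pt incR) u.inv, ← CoactBr.pt_comp]
        have hk := lift_conjAct a v u (CoactBr.pt
          ((Algebra.TensorProduct.includeLeft : B' →ₐ[k] B' ⊗[k] A).comp incR))
          (CoactBr.pt (Algebra.TensorProduct.includeRight : A →ₐ[k] B' ⊗[k] A))
        rw [← hr, CoactBr.lift_pt_ract] at hk
        rw [← cancel_mono u.hom, Category.assoc, Category.assoc, Iso.inv_hom_id, Category.comp_id]
        refine hk.symm.trans ?_
        congr 1
        refine AlgHom.ext fun b => ?_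
        show _ = bcHom hC (C' : Type u) ((1 : (C' : Type u)) ⊗ₜ[C] b)
        rw [bcHom_tmul, ← Algebra.TensorProduct.one_def, ← Algebra.TensorProduct.one_def, _root_.one_mul,
          AlgHom.comp_apply, GLin.coactAlgHom_apply]
        induction HopfRep.Comod.coact (k := k) (A := A) b using TensorProduct.induction_on with
        | zero => simp
        | tmul p c =>
          simp [incR]
          rfl
        | add x y hx hy => simp only [map_add, hx, hy]
      · have hi := invariant_points a' hinv
          (CoactBr.pt (Algebra.TensorProduct.includeRight : A →ₐ[k] B' ⊗[k] A) ≫ v.inv)⁻¹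
          (CoactBr.pt (Algebra.TensorProduct.includeLeft : B' →ₐ[k] B' ⊗[k] A) ≫ qq)
        rw [Category.assoc, hi, Category.assoc, Category.assoc]
        refine Over.OverMorphism.ext ?_
        rw [Over.comp_left, Over.comp_left, Over.comp_left, Over.comp_left]
        show _ ≫ q ≫ φ'.left = _ ≫ q ≫ φ'.left
        rw [hqw, ← Category.assoc, ← Category.assoc, CoactBr.pt_left, CoactBr.pt_left, ← Spec.map_comp,
          ← Spec.map_comp, ← CommRingCat.ofHom_comp, ← CommRingCat.ofHom_comp]
        congr 3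
        exact RingHom.ext fun c => (tmul_one_mem_invariants hC _ c).symm
    have hψB : Spec.map (CommRingCat.ofHom (GLin.coactAlgHom k A B').toRingHom) ≫ q ≫ ψ.left =
        Spec.map (CommRingCat.ofHom (Algebra.TensorProduct.includeLeftRingHom : B' →+* B' ⊗[k] A)) ≫ q ≫ ψ.left := by
      have hi := invariant_points a' hψ
        (CoactBr.pt (Algebra.TensorProduct.includeRight : A →ₐ[k] B' ⊗[k] A) ≫ v.inv)⁻¹
        (CoactBr.pt (Algebra.TensorProduct.includeLeft : B' →ₐ[k] B' ⊗[k] A) ≫ qq)
      rw [← Category.assoc, hequiv, Category.assoc, Category.assoc] at hi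
      exact congrArg CommaMorphism.left hi
    obtain ⟨χ, hχ, -⟩ := existsUnique_desc_spec (C := (C' : Type u)) hC' hα h1 (q ≫ ψ.left) hψB
    obtain ⟨E, hE1, -⟩ := exists_retraction hC' hα h1
    haveI hepi := H20Comod.CatQuot.epi_specMap E hE1
    have hsq : IsPullback (φ'.left ⁻¹ᵁ U).ι (φ'.left ∣_ U) φ'.left U.ι := (isPullback_morphismRestrict _ _).flip
    have hq' : IsPullback q (Spec.map (CommRingCat.ofHom (algebraMap (C' : Type u) B')) ≫ hU.isoSpec.inv)
        φ'.left U.ι := by
      refine hq.of_iso (Iso.refl _) (Iso.refl _) hU.isoSpec.symm (Iso.refl _) ?_ ?_ ?_ ?_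
      · simp
      · simp only [Iso.refl_hom, Category.id_comp, Iso.symm_hom]
        rfl
      · simp
      · simp only [Iso.refl_hom, Category.comp_id, Iso.symm_hom]
        exact (hU.isoSpec_inv_ι).symm
    let e := hsq.isoIsPullback _ _ hq'
    have he1 : e.hom ≫ q = (φ'.left ⁻¹ᵁ U).ι := hsq.isoIsPullback_hom_fst _ _ hq'
    have he2 : e.hom ≫ Spec.map (CommRingCat.ofHom (algebraMap (C' : Type u) B')) ≫ hU.isoSpec.inv =
        φ'.left ∣_ U := hsq.isoIsPullback_hom_snd _ _ hq'
    refine ⟨⟨hU.isoSpec.hom ≫ χ, ?_⟩, ?_⟩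
    · rw [← he2, Category.assoc, Category.assoc, Iso.inv_hom_id_assoc, hχ, reassoc_of% he1]
    · rw [← he2]
      infer_instance
  obtain ⟨χ, hχ, huniq⟩ := existsUnique_of_local φ'.left ψ.left (fun U hU => (key U hU).1) fun U hU => (key U hU).2
  have hover : χ ≫ Z.hom = Y'.hom := by
    obtain ⟨χ₂, -, huniq₂⟩ := existsUnique_of_local φ'.left X'.hom
      (fun U hU => ⟨U.ι ≫ Y'.hom, by rw [morphismRestrict_ι_assoc, Over.w]⟩) fun U hU => (key U hU).2
    exact (huniq₂ _ (by show φ'.left ≫ χ ≫ Z.hom = X'.hom; rw [reassoc_of% hχ, Over.w])).trans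
      (huniq₂ _ (Over.w φ')).symm
  exact ⟨Over.homMk χ hover, Over.OverMorphism.ext hχ,
    fun χ' hχ' => Over.OverMorphism.ext (huniq _ (congrArg CommaMorphism.left hχ'))⟩

end

end Groth.Agent.H20LRQ
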