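import Groth.Agent.H20Comod.OrbitClosure
import Groth.Agent.H20Comod.CatQuot
import Groth.Agent.H20Comod.HilbertFG

/-!
Invariants of linearly reductive affine actions under base change, and images of stable closed sets.
-/

set_option autoImplicit false
set_option linter.style.haveILetI false
set_option linter.unusedSectionVars false
set_option backward.isDefEq.respectTransparency false
set_option backward.isDefEq.respectTransparency.types false

universe u

open TensorProduct HopfRep
open Groth.Agent.H20Comod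

namespace Groth.Agent.H20LRQ

noncomputable section

variable {k : Type u} [CommRing k] {A : Type u} [CommRing A] [HopfAlgebra k A]
variable {B : Type u} [CommRing B] [Algebra k B] [Comod k A B] [GLin.IsCoactAlg k A B]

variable (C : Type u) [CommRing C] [Algebra C B]

variable (k A B) in
/-- `C` maps isomorphically onto the invariants. -/
structure IsInvRing : Prop where
  fixed : ∀ c : C, Comod.coact (k := k) (A := A) (algebraMap C B c) = algebraMap C B c ⊗ₜ[k] (1 : A)
  injective : Function.Injective (algebraMap C B)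
  surjective : ∀ b : B, Comod.coact (k := k) (A := A) b = b ⊗ₜ[k] (1 : A) → b ∈ Set.range (algebraMap C B)

variable {C}

theorem exists_retraction (hC : IsInvRing k A B C) {α : A →ₗ[k] k} (hα : IsIntegral α) (h1 : α 1 = 1) :
    ∃ E : B →ₗ[C] C, E 1 = 1 ∧ ∀ b, algebraMap C B (E b) = actL α b := by
  have hmem : ∀ b : B, actL α b ∈ Set.range (algebraMap C B) := fun b =>
    hC.surjective _ (actL_mem_fixedPts hα h1 b)
  choose e he using hmem
  refine ⟨{ toFun := e, map_add' := fun x y => hC.injective ?_, map_smul' := fun c x => hC.injective ?_ },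
    hC.injective ?_, he⟩
  · rw [map_add, he, he, he, map_add]
  · rw [RingHom.id_apply, smul_eq_mul, map_mul, he, he, Algebra.smul_def]
    exact actL_mul_of_fixed α (hC.fixed c) x
  · show algebraMap C B (e 1) = _
    rw [he, (algebraMap C B).map_one]
    exact actL_eq_self_of_fixed h1 (one_mem (GLin.invariants k A B))

/-- Over every prime of the invariants containing the invariants of a stable ideal lies a prime containing it. -/
theorem exists_prime_over (hC : IsInvRing k A B C) {α : A →ₗ[k] k} (hα : IsIntegral α) (h1 : α 1 = 1) {I : Ideal B}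
    (hI : IsSubcomod (k := k) (A := A) (I.restrictScalars k)) (p : Ideal C) [p.IsPrime]
    (hp : I.comap (algebraMap C B) ≤ p) :
    ∃ q : Ideal B, q.IsPrime ∧ I ≤ q ∧ q.comap (algebraMap C B) = p := by
  obtain ⟨E, hE1, hE⟩ := exists_retraction hC hα h1
  have hle : (I ⊔ p.map (algebraMap C B)).comap (algebraMap C B) ≤ p := by
    intro x hx
    obtain ⟨y, hy, z, hz, hyz⟩ := Submodule.mem_sup.1 (Ideal.mem_comap.1 hx)
    have hx' : x = E y + E z := by
      rw [← map_add, hyz, Algebra.algebraMap_eq_smul_one, map_smul, hE1, smul_eq_mul, mul_one]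
    rw [hx']
    refine p.add_mem (hp ?_) ?_
    · rw [Ideal.mem_comap, hE]
      exact actL_mem_of_isSubcomod hI α hy
    · have hz' : z ∈ p • (⊤ : Submodule C B) := by rw [Ideal.smul_top_eq_map]; exact hz
      refine Submodule.smul_induction_on hz' (fun r hr m _ => ?_) (fun u v hu hv => ?_)
      · rw [map_smul]
        exact p.mul_mem_right _ hr
      · rw [map_add]
        exact p.add_mem hu hv
  obtain ⟨q, hq, hqp, hqc⟩ := Ideal.exists_ideal_comap_le_prime (S := B)
    (f := algebraMap C B) p (I ⊔ p.map (algebraMap C B)) hle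
  exact ⟨q, hqp, le_sup_left.trans hq,
    le_antisymm hqc (Ideal.le_comap_of_map_le (le_sup_right.trans hq))⟩

theorem image_zeroLocus_eq (hC : IsInvRing k A B C) {α : A →ₗ[k] k} (hα : IsIntegral α) (h1 : α 1 = 1) {I : Ideal B}
    (hI : IsSubcomod (k := k) (A := A) (I.restrictScalars k)) :
    PrimeSpectrum.comap (algebraMap C B) '' PrimeSpectrum.zeroLocus (I : Set B) =
      PrimeSpectrum.zeroLocus (I.comap (algebraMap C B) : Set C) := by
  ext p
  constructor
  · rintro ⟨q, hq, rfl⟩
    exact Ideal.comap_mono hq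
  · intro hp
    obtain ⟨q, hq, hIq, hqp⟩ := exists_prime_over hC hα h1 hI p.asIdeal hp
    exact ⟨⟨q, hq⟩, hIq, PrimeSpectrum.ext hqp⟩

theorem isInvRing_invariants : IsInvRing k A B (GLin.invariants k A B) :=
  ⟨fun c => c.2, Subtype.val_injective, fun b hb => ⟨⟨b, hb⟩, rfl⟩⟩

/-- The ideal of functions vanishing on an invariant closed set is stable. -/
theorem isSubcomod_of_map_le {k : Type u} [Field k] {A : Type u} [CommRing A] [HopfAlgebra k A]
    {B : Type u} [CommRing B] [Algebra k B] [Comod k A B] [GLin.IsCoactAlg k A B] (I : Ideal B)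
    (h : ∀ b ∈ I, Algebra.TensorProduct.map (Ideal.Quotient.mkₐ k I) (AlgHom.id k A) (GLin.coactAlgHom k A B b) = 0) :
    IsSubcomod (k := k) (A := A) (I.restrictScalars k) := by
  intro b hb
  refine (rTensor_exact A (LinearMap.exact_subtype_mkQ (I.restrictScalars k))
    (Submodule.mkQ_surjective _) _).1 ?_
  have hsplit : ∀ z : B ⊗[k] A, Algebra.TensorProduct.map (Ideal.Quotient.mkₐ k I) (AlgHom.id k A) z = 0 →
      (I.restrictScalars k).mkQ.rTensor A z = 0 := by
    intro z hz
    let e : (B ⧸ I.restrictScalars k) ≃ₗ[k] (B ⧸ I) := Submodule.Quotient.restrictScalarsEquiv k I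
    refine (TensorProduct.congr e (LinearEquiv.refl k A)).injective ?_
    rw [map_zero, ← hz]
    clear hz
    induction z using TensorProduct.induction_on with
    | zero => simp
    | tmul p a => simp [e]
    | add x y hx hy => simp only [map_add, hx, hy]
  exact hsplit _ (h b hb)

section BaseChange

variable {C₀ : Type u} [CommRing C₀] [Algebra C₀ B] [Algebra k C₀] [IsScalarTower k C₀ B]
  (hC : IsInvRing k A B C₀) (C' : Type u) [CommRing C'] [Algebra k C'] [Algebra C₀ C'] [IsScalarTower k C₀ C']

/-- The coaction, linear over the invariants. -/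
def coactInv : B →ₐ[C₀] B ⊗[k] A :=
  { GLin.coactAlgHom k A B with
    commutes' := fun c => hC.fixed c }

/-- The right factor of the base change of the coaction. -/
def bcRight : B →ₐ[C₀] (C' ⊗[C₀] B) ⊗[k] A :=
  (Algebra.TensorProduct.map (Algebra.TensorProduct.includeRight : B →ₐ[C₀] C' ⊗[C₀] B) (AlgHom.id k A)).comp
    (coactInv hC)

theorem map_includeRight_apply (z : B ⊗[k] A) :
    Algebra.TensorProduct.map (Algebra.TensorProduct.includeRight : B →ₐ[C₀] C' ⊗[C₀] B) (AlgHom.id k A) z =
      Algebra.TensorProduct.map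
        ((Algebra.TensorProduct.includeRight : B →ₐ[C₀] C' ⊗[C₀] B).restrictScalars k) (AlgHom.id k A) z := by
  induction z using TensorProduct.induction_on with
  | zero => simp
  | tmul p a => simp
  | add u v hu hv => simp only [map_add, hu, hv]

/-- The base change of the coaction. -/
def bcHom : C' ⊗[C₀] B →ₐ[k] (C' ⊗[C₀] B) ⊗[k] A :=
  (Algebra.TensorProduct.lift
    ((Algebra.TensorProduct.includeLeft :
      C' ⊗[C₀] B →ₐ[C₀] (C' ⊗[C₀] B) ⊗[k] A).comp Algebra.TensorProduct.includeLeft)
    (bcRight hC C')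
    fun _ _ => .all _ _).restrictScalars k

theorem bcHom_tmul (c : C') (b : B) :
    bcHom hC C' (c ⊗ₜ[C₀] b) = (c ⊗ₜ[C₀] (1 : B)) ⊗ₜ[k] (1 : A) *
      Algebra.TensorProduct.map
        ((Algebra.TensorProduct.includeRight : B →ₐ[C₀] C' ⊗[C₀] B).restrictScalars k) (AlgHom.id k A)
        (GLin.coactAlgHom k A B b) := by
  rw [← map_includeRight_apply]
  simp only [bcHom, AlgHom.restrictScalars_apply, Algebra.TensorProduct.lift_tmul, bcRight, AlgHom.comp_apply,
    Algebra.TensorProduct.includeLeft_apply]
  rfl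

theorem bcHom_counit (x : C' ⊗[C₀] B) :
    LinearMap.lTensor (C' ⊗[C₀] B) (CoalgebraStruct.counit (R := k) (A := A)) (bcHom hC C' x) = x ⊗ₜ[k] (1 : k) := by
  induction x using TensorProduct.induction_on with
  | zero => simp
  | add x y hx hy => simp only [map_add, TensorProduct.add_tmul, hx, hy]
  | tmul c b =>
    rw [bcHom_tmul]
    have h : ∀ z : B ⊗[k] A, LinearMap.lTensor (C' ⊗[C₀] B) (CoalgebraStruct.counit (R := k) (A := A))
        ((c ⊗ₜ[C₀] (1 : B)) ⊗ₜ[k] (1 : A) * Algebra.TensorProduct.map
          ((Algebra.TensorProduct.includeRight : B →ₐ[C₀] C' ⊗[C₀] B).restrictScalars k) (AlgHom.id k A) z) =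
        LinearMap.rTensor k ((TensorProduct.mk C₀ C' B c).restrictScalars k)
          (LinearMap.lTensor B (CoalgebraStruct.counit (R := k) (A := A)) z) := by
      intro z
      induction z using TensorProduct.induction_on with
      | zero => simp
      | tmul p a =>
        simp [Algebra.TensorProduct.tmul_mul_tmul]
      | add u v hu hv => simp only [map_add, mul_add, hu, hv]
    rw [h]
    have h1 := LinearMap.congr_fun (Comod.counit_comp (k := k) (A := A) (V := B)) b
    simp only [LinearMap.coe_comp, Function.comp_apply] at h1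
    rw [GLin.coactAlgHom_apply, h1]
    rfl

theorem bcHom_coassoc (x : C' ⊗[C₀] B) :
    TensorProduct.assoc k (C' ⊗[C₀] B) A A (LinearMap.rTensor A (bcHom hC C').toLinearMap (bcHom hC C' x)) =
      LinearMap.lTensor (C' ⊗[C₀] B) (CoalgebraStruct.comul (R := k) (A := A)) (bcHom hC C' x) := by
  induction x using TensorProduct.induction_on with
  | zero => simp
  | add x y hx hy => simp only [map_add, hx, hy]
  | tmul c b =>
    let ι : B →ₗ[k] C' ⊗[C₀] B := (TensorProduct.mk C₀ C' B c).restrictScalars k
    have h1 : ∀ z : B ⊗[k] A, (c ⊗ₜ[C₀] (1 : B)) ⊗ₜ[k] (1 : A) * Algebra.TensorProduct.map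
        ((Algebra.TensorProduct.includeRight : B →ₐ[C₀] C' ⊗[C₀] B).restrictScalars k) (AlgHom.id k A) z =
        LinearMap.rTensor A ι z := by
      intro z
      induction z using TensorProduct.induction_on with
      | zero => simp
      | tmul p a => simp [ι, Algebra.TensorProduct.tmul_mul_tmul]
      | add u v hu hv => simp only [map_add, mul_add, hu, hv]
    have hb : ∀ p : B, bcHom hC C' (ι p) = LinearMap.rTensor A ι (Comod.coact (k := k) (A := A) p) := fun p => by
      show bcHom hC C' (c ⊗ₜ[C₀] p) = _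
      rw [bcHom_tmul, h1, GLin.coactAlgHom_apply]
    rw [show c ⊗ₜ[C₀] b = ι b from rfl, hb]
    have e1 : ∀ z : B ⊗[k] A, LinearMap.rTensor A (bcHom hC C').toLinearMap (LinearMap.rTensor A ι z) =
        LinearMap.rTensor A (LinearMap.rTensor A ι) (LinearMap.rTensor A (Comod.coact (k := k) (A := A)) z) := by
      intro z
      induction z using TensorProduct.induction_on with
      | zero => simp
      | tmul p a =>
        simp only [LinearMap.rTensor_tmul]
        exact congrArg (· ⊗ₜ[k] a) (hb p)
      | add u v hu hv => simp only [map_add, hu, hv]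
    have e2 : ∀ z : (B ⊗[k] A) ⊗[k] A,
        TensorProduct.assoc k (C' ⊗[C₀] B) A A (LinearMap.rTensor A (LinearMap.rTensor A ι) z) =
          LinearMap.rTensor (A ⊗[k] A) ι (TensorProduct.assoc k B A A z) := by
      intro z
      induction z using TensorProduct.induction_on with
      | zero => simp
      | tmul q a =>
        induction q using TensorProduct.induction_on with
        | zero => simp
        | tmul p r => simp
        | add u v hu hv => simp only [map_add, TensorProduct.add_tmul, hu, hv]
      | add u v hu hv => simp only [map_add, hu, hv]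
    have h2 := LinearMap.congr_fun (Comod.coassoc (k := k) (A := A) (V := B)) b
    simp only [LinearMap.coe_comp, Function.comp_apply, LinearEquiv.coe_coe] at h2
    rw [e1, e2, h2, ← LinearMap.comp_apply, LinearMap.rTensor_comp_lTensor, ← LinearMap.lTensor_comp_rTensor,
      LinearMap.comp_apply]

/-- The comodule structure on the base change along an algebra over the invariants. -/
@[reducible] def bcComod : Comod k A (C' ⊗[C₀] B) where
  coact := (bcHom hC C').toLinearMap
  coassoc := LinearMap.ext (bcHom_coassoc hC C')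
  counit_comp := LinearMap.ext (bcHom_counit hC C')

theorem isCoactAlg_bcComod :
    @GLin.IsCoactAlg k _ A _ _ (C' ⊗[C₀] B) _ _ (bcComod hC C') :=
  @GLin.IsCoactAlg.mk k _ A _ _ (C' ⊗[C₀] B) _ _ (bcComod hC C') (map_one (bcHom hC C'))
    (map_mul (bcHom hC C'))

theorem coactAlgHom_bcComod :
    @GLin.coactAlgHom k _ A _ _ (C' ⊗[C₀] B) _ _ (bcComod hC C') (isCoactAlg_bcComod hC C') =
      bcHom hC C' := by
  letI := bcComod hC C'
  haveI := isCoactAlg_bcComod hC C'
  exact AlgHom.ext fun _ => rfl

theorem tmul_one_mem_invariants (c : C') :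
    bcHom hC C' (c ⊗ₜ[C₀] (1 : B)) = (c ⊗ₜ[C₀] (1 : B)) ⊗ₜ[k] (1 : A) := by
  rw [bcHom_tmul, map_one, map_one, mul_one]

variable {α : A →ₗ[k] k} (hα : IsIntegral α) (h1 : α 1 = 1)

include hC hα h1 in
theorem mem_range_of_invariant {x : C' ⊗[C₀] B} (hx : bcHom hC C' x = x ⊗ₜ[k] (1 : A)) :
    x ∈ Set.range (fun c : C' => c ⊗ₜ[C₀] (1 : B)) := by
  have key : ∀ y : C' ⊗[C₀] B, ∃ c : C', sliceR α (bcHom hC C' y) = c ⊗ₜ[C₀] (1 : B) := by
    intro y
    induction y using TensorProduct.induction_on with
    | zero => exact ⟨0, by simp⟩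
    | add u v hu hv =>
      obtain ⟨c, hc⟩ := hu
      obtain ⟨d, hd⟩ := hv
      exact ⟨c + d, by rw [map_add, map_add, hc, hd, TensorProduct.add_tmul]⟩
    | tmul c b =>
      obtain ⟨E, -, hE⟩ := exists_retraction hC hα h1
      refine ⟨E b • c, ?_⟩
      rw [bcHom_tmul]
      have h : ∀ z : B ⊗[k] A, sliceR α ((c ⊗ₜ[C₀] (1 : B)) ⊗ₜ[k] (1 : A) * Algebra.TensorProduct.map
          ((Algebra.TensorProduct.includeRight : B →ₐ[C₀] C' ⊗[C₀] B).restrictScalars k) (AlgHom.id k A) z) =
          c ⊗ₜ[C₀] sliceR α z := by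
        intro z
        induction z using TensorProduct.induction_on with
        | zero => simp
        | tmul p a =>
          simp [Algebra.TensorProduct.tmul_mul_tmul]
        | add u v hu hv => simp only [map_add, mul_add, TensorProduct.tmul_add, hu, hv]
      rw [h, GLin.coactAlgHom_apply, TensorProduct.smul_tmul, Algebra.smul_def, mul_one, hE]
      rfl
  obtain ⟨c, hc⟩ := key x
  rw [hx, sliceR_tmul, h1, one_smul] at hc
  exact ⟨c, hc.symm⟩

include hC hα h1 in
theorem tmul_one_injective : Function.Injective fun c : C' => c ⊗ₜ[C₀] (1 : B) :=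
  let ⟨E, hE1, _⟩ := exists_retraction hC hα h1
  CatQuot.injective_includeLeft E hE1 C'

end BaseChange

end

end Groth.Agent.H20LRQ

namespace Groth.Agent.H20LRQ

noncomputable section

variable {k : Type u} [Field k] {A : Type u} [CommRing A] [HopfAlgebra k A]
variable {B : Type u} [CommRing B] [Algebra k B] [Comod k A B] [GLin.IsCoactAlg k A B]

/-- The largest stable ideal inside an ideal. -/
def stabCore (I : Ideal B) : Ideal B :=
  RingHom.ker ((Algebra.TensorProduct.map (Ideal.Quotient.mkₐ k I) (AlgHom.id k A)).comp (GLin.coactAlgHom k A B))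

theorem stabCore_le (I : Ideal B) : stabCore (k := k) (A := A) I ≤ I := by
  intro b hb
  rw [stabCore, RingHom.mem_ker, AlgHom.comp_apply, GLin.coactAlgHom_apply] at hb
  have h : ∀ z : B ⊗[k] A, sliceR (CoalgebraStruct.counit (R := k))
      (Algebra.TensorProduct.map (Ideal.Quotient.mkₐ k I) (AlgHom.id k A) z) =
      Ideal.Quotient.mkₐ k I (sliceR (CoalgebraStruct.counit (R := k)) z) := by
    intro z
    induction z using TensorProduct.induction_on with
    | zero => simp
    | tmul p a => simp
    | add u v hu hv => simp only [map_add, hu, hv]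
  have h1 := h (Comod.coact (k := k) (A := A) b)
  rw [hb, map_zero, ← actL_apply, actL_counit] at h1
  exact Ideal.Quotient.eq_zero_iff_mem.1 h1.symm

theorem isSubcomod_stabCore (I : Ideal B) :
    IsSubcomod (k := k) (A := A) ((stabCore (k := k) (A := A) I).restrictScalars k) := by
  rw [isSubcomod_iff_forall_actL]
  intro b hb φ
  show actL φ b ∈ stabCore I
  have hb' : b ∈ stabCore I := hb
  rw [stabCore, RingHom.mem_ker, AlgHom.comp_apply, GLin.coactAlgHom_apply] at hb' ⊢
  have h : ∀ z : B ⊗[k] A, Algebra.TensorProduct.map (Ideal.Quotient.mkₐ k I) (AlgHom.id k A)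
      (LinearMap.lTensor B (actL φ : A →ₗ[k] A) z) =
      LinearMap.lTensor (B ⧸ I) (actL φ : A →ₗ[k] A)
        (Algebra.TensorProduct.map (Ideal.Quotient.mkₐ k I) (AlgHom.id k A) z) := by
    intro z
    induction z using TensorProduct.induction_on with
    | zero => simp
    | tmul p a => simp
    | add u v hu hv => simp only [map_add, hu, hv]
  rw [coact_actL, h, hb', map_zero]

/-- For an invariant closed set the stable core cuts out the same set. -/
theorem zeroLocus_stabCore {S : Set (PrimeSpectrum B)} (hS : IsClosed S)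
    (hinv : ∀ P : PrimeSpectrum (B ⊗[k] A),
      PrimeSpectrum.comap (Algebra.TensorProduct.includeLeftRingHom : B →+* B ⊗[k] A) P ∈ S →
        PrimeSpectrum.comap (GLin.coactAlgHom k A B).toRingHom P ∈ S) :
    PrimeSpectrum.zeroLocus (stabCore (k := k) (A := A) (PrimeSpectrum.vanishingIdeal S) : Set B) = S := by
  set I := PrimeSpectrum.vanishingIdeal S
  refine le_antisymm (fun x hx => ?_) ?_
  · rw [← hS.closure_eq, ← PrimeSpectrum.zeroLocus_vanishingIdeal_eq_closure]
    intro b hb
    have hnil : IsNilpotent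
        (Algebra.TensorProduct.map (Ideal.Quotient.mkₐ k I) (AlgHom.id k A) (GLin.coactAlgHom k A B b)) := by
      rw [nilpotent_iff_mem_prime]
      intro P hP
      let P' : Ideal (B ⊗[k] A) :=
        P.comap (Algebra.TensorProduct.map (Ideal.Quotient.mkₐ k I) (AlgHom.id k A)).toRingHom
      haveI : P'.IsPrime := Ideal.IsPrime.comap _
      have hm : PrimeSpectrum.comap (Algebra.TensorProduct.includeLeftRingHom : B →+* B ⊗[k] A) ⟨P', inferInstance⟩ ∈ S := by
        rw [← hS.closure_eq, ← PrimeSpectrum.zeroLocus_vanishingIdeal_eq_closure]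
        intro c hc
        show Algebra.TensorProduct.map (Ideal.Quotient.mkₐ k I) (AlgHom.id k A) (c ⊗ₜ[k] (1 : A)) ∈ P
        rw [Algebra.TensorProduct.map_tmul, show Ideal.Quotient.mkₐ k I c = 0 from Ideal.Quotient.eq_zero_iff_mem.2 hc,
          TensorProduct.zero_tmul]
        exact zero_mem _
      exact (PrimeSpectrum.mem_vanishingIdeal _ _).1 hb _ (hinv _ hm)
    obtain ⟨N, hN⟩ := hnil
    have hbN : b ^ N ∈ stabCore (k := k) (A := A) I := by
      rw [stabCore, RingHom.mem_ker, AlgHom.comp_apply, map_pow, map_pow]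
      exact hN
    exact x.isPrime.mem_of_pow_mem N (hx hbN)
  · intro x hx b hb
    exact (PrimeSpectrum.mem_vanishingIdeal _ _).1 (stabCore_le I hb) x hx

/-- The image of an invariant closed set is closed. -/
theorem isClosed_image {C : Type u} [CommRing C] [Algebra C B] (hC : IsInvRing k A B C) {α : A →ₗ[k] k}
    (hα : IsIntegral α) (h1 : α 1 = 1) {S : Set (PrimeSpectrum B)} (hS : IsClosed S)
    (hinv : ∀ P : PrimeSpectrum (B ⊗[k] A),
      PrimeSpectrum.comap (Algebra.TensorProduct.includeLeftRingHom : B →+* B ⊗[k] A) P ∈ S →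
        PrimeSpectrum.comap (GLin.coactAlgHom k A B).toRingHom P ∈ S) :
    IsClosed (PrimeSpectrum.comap (algebraMap C B) '' S) := by
  rw [← zeroLocus_stabCore hS hinv, image_zeroLocus_eq hC hα h1 (isSubcomod_stabCore _)]
  exact PrimeSpectrum.isClosed_zeroLocus _

/-- Invariants separate disjoint invariant closed sets. -/
theorem exists_invariant_separating {α : A →ₗ[k] k} (hα : IsIntegral α) (h1 : α 1 = 1)
    {S₁ S₂ : Set (PrimeSpectrum B)} (hS₁ : IsClosed S₁) (hS₂ : IsClosed S₂) (hd : Disjoint S₁ S₂)
    (hinv₁ : ∀ P : PrimeSpectrum (B ⊗[k] A),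
      PrimeSpectrum.comap (Algebra.TensorProduct.includeLeftRingHom : B →+* B ⊗[k] A) P ∈ S₁ →
        PrimeSpectrum.comap (GLin.coactAlgHom k A B).toRingHom P ∈ S₁)
    (hinv₂ : ∀ P : PrimeSpectrum (B ⊗[k] A),
      PrimeSpectrum.comap (Algebra.TensorProduct.includeLeftRingHom : B →+* B ⊗[k] A) P ∈ S₂ →
        PrimeSpectrum.comap (GLin.coactAlgHom k A B).toRingHom P ∈ S₂) :
    ∃ f : B, Comod.coact (k := k) (A := A) f = f ⊗ₜ[k] (1 : A) ∧ S₁ ⊆ PrimeSpectrum.zeroLocus {f} ∧
      S₂ ⊆ PrimeSpectrum.zeroLocus {1 - f} := by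
  set J₁ := stabCore (k := k) (A := A) (PrimeSpectrum.vanishingIdeal S₁)
  set J₂ := stabCore (k := k) (A := A) (PrimeSpectrum.vanishingIdeal S₂)
  have hsup : J₁ ⊔ J₂ = ⊤ := by
    rw [← PrimeSpectrum.zeroLocus_empty_iff_eq_top, PrimeSpectrum.zeroLocus_sup, zeroLocus_stabCore hS₁ hinv₁,
      zeroLocus_stabCore hS₂ hinv₂]
    exact hd.inter_eq
  obtain ⟨y, hy, z, hz, hyz⟩ := Submodule.mem_sup.1 ((Ideal.eq_top_iff_one _).1 hsup)
  refine ⟨actL α y, actL_mem_fixedPts hα h1 y, fun x hx => ?_, fun x hx => ?_⟩
  · have hm : x ∈ PrimeSpectrum.zeroLocus (J₁ : Set B) := by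
      rw [zeroLocus_stabCore hS₁ hinv₁]; exact hx
    exact Set.singleton_subset_iff.2 (hm (actL_mem_of_isSubcomod (isSubcomod_stabCore _) α hy))
  · have hm : x ∈ PrimeSpectrum.zeroLocus (J₂ : Set B) := by
      rw [zeroLocus_stabCore hS₂ hinv₂]; exact hx
    refine Set.singleton_subset_iff.2 ?_
    have h : 1 - actL α y = actL α z := by
      rw [sub_eq_iff_eq_add', ← map_add, hyz, actL_eq_self_of_fixed h1 (one_mem (GLin.invariants k A B))]
    rw [h]
    exact hm (actL_mem_of_isSubcomod (isSubcomod_stabCore _) α hz)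

end

end Groth.Agent.H20LRQ
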