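import Groth.Agent.H20LRQ.BaseChange
import Groth.Agent.H20Inertia.Points

/-!
Orbits of geometric points: when they are closed, the quotient map of an affine scheme by a linearly
reductive group separates them.
-/

set_option autoImplicit false
set_option linter.style.haveILetI false
set_option linter.unusedSectionVars false
set_option backward.isDefEq.respectTransparency false
set_option maxHeartbeats 400000

universe u

open CategoryTheory Limits MonoidalCategory CartesianMonoidalCategory MonObj GrpObj AlgebraicGeometry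
open scoped TensorProduct

namespace Groth.Agent.H20LRQ

noncomputable section

/-- A field receiving two algebras at two primes with the same trace. -/
theorem exists_hom_pair {k B S₁ S₂ : Type u} [CommRing k] [CommRing B] [CommRing S₁] [CommRing S₂] [Algebra k B]
    [Algebra k S₁] [Algebra k S₂] (f : B →ₐ[k] S₁) (g : B →ₐ[k] S₂) (P : PrimeSpectrum S₁) (Q : PrimeSpectrum S₂)
    (h : PrimeSpectrum.comap f.toRingHom P = PrimeSpectrum.comap g.toRingHom Q) :
    ∃ (L : Type u) (_ : Field L) (_ : Algebra k L) (F : S₁ →ₐ[k] L) (G : S₂ →ₐ[k] L),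
      RingHom.ker F.toRingHom = P.asIdeal ∧ RingHom.ker G.toRingHom = Q.asIdeal ∧ F.comp f = G.comp g := by
  letI : Algebra B P.asIdeal.ResidueField := ((algebraMap S₁ P.asIdeal.ResidueField).comp f.toRingHom).toAlgebra
  letI : Algebra B Q.asIdeal.ResidueField := ((algebraMap S₂ Q.asIdeal.ResidueField).comp g.toRingHom).toAlgebra
  have hk : RingHom.ker (algebraMap B P.asIdeal.ResidueField) = RingHom.ker (algebraMap B Q.asIdeal.ResidueField) := by
    rw [RingHom.algebraMap_toAlgebra, RingHom.algebraMap_toAlgebra, ← RingHom.comap_ker, ← RingHom.comap_ker,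
      Ideal.ker_algebraMap_residueField, Ideal.ker_algebraMap_residueField]
    exact congrArg PrimeSpectrum.asIdeal h
  obtain ⟨L, _, _, _, j₁, j₂, -⟩ := H20Inertia.exists_common_field hk
  letI : Algebra k L := ((algebraMap B L).comp (algebraMap k B)).toAlgebra
  refine ⟨L, inferInstance, inferInstance,
    { j₁.toRingHom.comp (algebraMap S₁ P.asIdeal.ResidueField) with commutes' := fun r => ?_ },
    { j₂.toRingHom.comp (algebraMap S₂ Q.asIdeal.ResidueField) with commutes' := fun r => ?_ }, ?_, ?_, ?_⟩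
  · show j₁ (algebraMap S₁ _ (algebraMap k S₁ r)) = _
    rw [← f.commutes r]
    exact j₁.commutes _
  · show j₂ (algebraMap S₂ _ (algebraMap k S₂ r)) = _
    rw [← g.commutes r]
    exact j₂.commutes _
  · show RingHom.ker (j₁.toRingHom.comp _) = _
    rw [RingHom.ker_comp_of_injective _ j₁.toRingHom.injective, Ideal.ker_algebraMap_residueField]
  · show RingHom.ker (j₂.toRingHom.comp _) = _
    rw [RingHom.ker_comp_of_injective _ j₂.toRingHom.injective, Ideal.ker_algebraMap_residueField]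
  · exact AlgHom.ext fun b => (j₁.commutes b).trans (j₂.commutes b).symm

section Hom

variable {k : Type u} [Field k] {A : Type u} [CommRing A] [HopfAlgebra k A]
variable {B : Type u} [CommRing B] [Algebra k B] [HopfRep.Comod k A B] [GLin.IsCoactAlg k A B]
variable {R : Type u} [CommRing R] [Algebra k R]

/-- The orbit map of a point. -/
def orbitHom (x : B →ₐ[k] R) : B →ₐ[k] R ⊗[k] A :=
  (Algebra.TensorProduct.map x (AlgHom.id k A)).comp (GLin.coactAlgHom k A B)

variable (k A R) in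
/-- The comultiplication, with coefficients. -/
def comulExt : R ⊗[k] A →ₐ[k] (R ⊗[k] A) ⊗[k] A :=
  Algebra.TensorProduct.lift
    ((Algebra.TensorProduct.includeLeft : R ⊗[k] A →ₐ[k] (R ⊗[k] A) ⊗[k] A).comp Algebra.TensorProduct.includeLeft)
    ((Algebra.TensorProduct.map (Algebra.TensorProduct.includeRight : A →ₐ[k] R ⊗[k] A) (AlgHom.id k A)).comp
      (Bialgebra.comulAlgHom k A)) fun _ _ => .all _ _

theorem map_orbitHom_coact (x : B →ₐ[k] R) :
    (Algebra.TensorProduct.map (orbitHom (A := A) x) (AlgHom.id k A)).comp (GLin.coactAlgHom k A B) =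
      (comulExt k A R).comp (orbitHom x) := by
  refine AlgHom.ext fun b => ?_
  let F : B ⊗[k] (A ⊗[k] A) →ₗ[k] (R ⊗[k] A) ⊗[k] A :=
    (TensorProduct.assoc k R A A).symm.toLinearMap ∘ₗ LinearMap.rTensor (A ⊗[k] A) x.toLinearMap
  have e1 : ∀ z : B ⊗[k] A, Algebra.TensorProduct.map (orbitHom (A := A) x) (AlgHom.id k A) z =
      F (TensorProduct.assoc k B A A (LinearMap.rTensor A (HopfRep.Comod.coact (k := k) (A := A)) z)) := by
    intro z
    induction z using TensorProduct.induction_on with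
    | zero => simp
    | tmul p c =>
      rw [Algebra.TensorProduct.map_tmul, LinearMap.rTensor_tmul, orbitHom, AlgHom.comp_apply, GLin.coactAlgHom_apply]
      induction HopfRep.Comod.coact (k := k) (A := A) p using TensorProduct.induction_on with
      | zero => simp
      | tmul q r => simp [F]
      | add s t hs ht => simp only [map_add, TensorProduct.add_tmul, hs, ht]
    | add s t hs ht => simp only [map_add, hs, ht]
  have e2 : ∀ z : B ⊗[k] A, comulExt k A R (Algebra.TensorProduct.map x (AlgHom.id k A) z) =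
      F (LinearMap.lTensor B (CoalgebraStruct.comul (R := k) (A := A)) z) := by
    intro z
    induction z using TensorProduct.induction_on with
    | zero => simp
    | tmul p c =>
      rw [Algebra.TensorProduct.map_tmul, comulExt, Algebra.TensorProduct.lift_tmul, LinearMap.lTensor_tmul,
        AlgHom.comp_apply, AlgHom.comp_apply, Bialgebra.comulAlgHom_apply, AlgHom.id_apply]
      induction CoalgebraStruct.comul (R := k) (A := A) c using TensorProduct.induction_on with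
      | zero => simp
      | tmul q r => simp [F, Algebra.TensorProduct.tmul_mul_tmul]
      | add s t hs ht => simp only [map_add, mul_add, TensorProduct.tmul_add, hs, ht]
    | add s t hs ht => simp only [map_add, hs, ht]
  have h2 := LinearMap.congr_fun (HopfRep.Comod.coassoc (k := k) (A := A) (V := B)) b
  simp only [LinearMap.coe_comp, Function.comp_apply, LinearEquiv.coe_coe] at h2
  rw [AlgHom.comp_apply, AlgHom.comp_apply, GLin.coactAlgHom_apply, e1, h2, orbitHom, AlgHom.comp_apply,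
    GLin.coactAlgHom_apply, e2]

/-- The image of the orbit map is invariant. -/
theorem comap_coact_mem_range_orbit (x : B →ₐ[k] R) (P : PrimeSpectrum (B ⊗[k] A))
    (hP : PrimeSpectrum.comap (Algebra.TensorProduct.includeLeftRingHom : B →+* B ⊗[k] A) P ∈
      Set.range (PrimeSpectrum.comap (orbitHom (A := A) x).toRingHom)) :
    PrimeSpectrum.comap (GLin.coactAlgHom k A B).toRingHom P ∈
      Set.range (PrimeSpectrum.comap (orbitHom (A := A) x).toRingHom) := by
  obtain ⟨Q, hQ⟩ := hP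
  obtain ⟨L, _, _, F, G, hF, -, hFG⟩ := exists_hom_pair
    (Algebra.TensorProduct.includeLeft : B →ₐ[k] B ⊗[k] A) (orbitHom (A := A) x) P Q hQ.symm
  let Φ : (R ⊗[k] A) ⊗[k] A →ₐ[k] L :=
    Algebra.TensorProduct.lift G (F.comp Algebra.TensorProduct.includeRight) fun _ _ => .all _ _
  let H : R ⊗[k] A →ₐ[k] L := Φ.comp (comulExt k A R)
  have h1 : Φ.comp (Algebra.TensorProduct.map (orbitHom (A := A) x) (AlgHom.id k A)) = F := by
    refine Algebra.TensorProduct.ext' fun p c => ?_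
    rw [AlgHom.comp_apply, Algebra.TensorProduct.map_tmul, Algebra.TensorProduct.lift_tmul,
      ← AlgHom.comp_apply G, ← hFG, AlgHom.id_apply, AlgHom.comp_apply, AlgHom.comp_apply,
      Algebra.TensorProduct.includeLeft_apply, Algebra.TensorProduct.includeRight_apply, ← map_mul,
      Algebra.TensorProduct.tmul_mul_tmul, _root_.mul_one, _root_.one_mul]
  have h2 : H.comp (orbitHom x) = F.comp (GLin.coactAlgHom k A B) := by
    rw [AlgHom.comp_assoc, ← map_orbitHom_coact, ← AlgHom.comp_assoc, h1]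
  refine ⟨⟨RingHom.ker H.toRingHom, RingHom.ker_isPrime _⟩, PrimeSpectrum.ext ?_⟩
  show (RingHom.ker H.toRingHom).comap _ = P.asIdeal.comap _
  rw [← hF, RingHom.comap_ker, RingHom.comap_ker]
  exact congrArg (fun m : B →ₐ[k] L => RingHom.ker m.toRingHom) h2

end Hom

theorem exists_lift_point {k B C Ω : Type u} [CommRing k] [CommRing B] [Algebra k B] [CommRing C] [Algebra C B]
    [Algebra k C] [IsScalarTower k C B] [CommRing Ω] [Algebra k Ω] [Algebra C Ω] [IsScalarTower k C Ω]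
    (x : B →ₐ[k] Ω) (e : ∀ c, x (algebraMap C B c) = algebraMap C Ω c) :
    ∃ x' : Ω ⊗[C] B →ₐ[k] Ω, ∀ w b, x' (w ⊗ₜ[C] b) = w * x b := by
  let xC : B →ₐ[C] Ω := { x with commutes' := e }
  refine ⟨(Algebra.TensorProduct.lift (AlgHom.id C Ω) xC fun _ _ => .all _ _).restrictScalars k, fun w b => ?_⟩
  rw [AlgHom.restrictScalars_apply, Algebra.TensorProduct.lift_tmul]
  rfl

section Geometry

variable {S : Scheme.{u}} {G X Y : Over S} [GrpObj G] (a : AlgGrp.Action G X)

theorem exists_psiY_point {T T' : Over S} (y₁ y₂ : T ⟶ X) (w₁ w₂ : T' ⟶ G ⊗ T)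
    (h : w₁ ≫ GIT.psi a y₁ = w₂ ≫ GIT.psi a y₂) :
    ∃ w : T' ⟶ G ⊗ X, w ≫ a.act = (w₁ ≫ snd G T) ≫ y₁ ∧ w ≫ snd G X = (w₁ ≫ snd G T) ≫ y₂ := by
  have hs := congrArg (· ≫ snd X T) h
  have hf := congrArg (· ≫ fst X T) h
  simp only [GIT.psi, Category.assoc, lift_snd, lift_fst] at hs hf
  have hf' : lift (w₁ ≫ fst G T) ((w₁ ≫ snd G T) ≫ y₁) ≫ a.act =
      lift (w₂ ≫ fst G T) ((w₁ ≫ snd G T) ≫ y₂) ≫ a.act := by
    rw [← Category.assoc, ← Category.assoc w₂] at hf
    convert hf using 2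
    · exact CartesianMonoidalCategory.hom_ext _ _ (by simp) (by simp)
    · exact CartesianMonoidalCategory.hom_ext _ _ (by simp) (by simp [reassoc_of% hs])
  refine ⟨lift ((w₁ ≫ fst G T)⁻¹ * (w₂ ≫ fst G T)) ((w₁ ≫ snd G T) ≫ y₂), ?_, lift_snd _ _⟩
  rw [lift_mul_act, ← hf', ← lift_mul_act, inv_mul_cancel, lift_one_act]

theorem mem_range_psiY {φ : X ⟶ Y} (hi : GIT.IsInvariant a φ) {T T' : Over S} (y₁ y₂ : T ⟶ X)
    (ζ : T.left ⟶ Limits.pullback φ.left φ.left) (h₁ : ζ ≫ Limits.pullback.fst φ.left φ.left = y₁.left)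
    (h₂ : ζ ≫ Limits.pullback.snd φ.left φ.left = y₂.left) (w₁ w₂ : T' ⟶ G ⊗ T)
    (h : w₁ ≫ GIT.psi a y₁ = w₂ ≫ GIT.psi a y₂) (r : T'.left) :
    ζ ((w₁ ≫ snd G T).left r) ∈ Set.range (GIT.PsiY a φ hi).base := by
  obtain ⟨w, hw₁, hw₂⟩ := exists_psiY_point a y₁ y₂ w₁ w₂ h
  refine ⟨w.left r, ?_⟩
  have e : w.left ≫ GIT.PsiY a φ hi = (w₁ ≫ snd G T).left ≫ ζ := by
    refine Limits.pullback.hom_ext ?_ ?_
    · rw [Category.assoc, GIT.PsiY, Limits.pullback.lift_fst, Category.assoc, h₁, ← Over.comp_left, hw₁]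
      rfl
    · rw [Category.assoc, GIT.PsiY, Limits.pullback.lift_snd, Category.assoc, h₂, ← Over.comp_left, hw₂]
      rfl
  exact congrArg (fun m : T'.left ⟶ Limits.pullback φ.left φ.left => m r) e

end Geometry

variable {k : Type u} [Field k] {A : Type u} [CommRing A] [HopfAlgebra k A]
variable {B : Type u} [CommRing B] [Algebra k B] [HopfRep.Comod k A B] [GLin.IsCoactAlg k A B]
variable {G X : Over (Spec (CommRingCat.of k))} [GrpObj G] (a : AlgGrp.Action G X)
  (v : G ≅ CoactBr.sp k A) [IsMonHom v.inv] (u : X ≅ CoactBr.sp k B)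
  (hr : CoactBr.ract k A B = conjAct a v u)

variable (Ω : Type u) [CommRing Ω] [Algebra k Ω]

/-- The universal point `(g⁻¹, t)` of `G ×ₖ Spec Ω`. -/
def univG : CoactBr.sp k (Ω ⊗[k] A) ⟶ G ⊗ CoactBr.sp k Ω :=
  lift (CoactBr.pt (Algebra.TensorProduct.includeRight : A →ₐ[k] Ω ⊗[k] A) ≫ v.inv)⁻¹
    (CoactBr.pt (Algebra.TensorProduct.includeLeft : Ω →ₐ[k] Ω ⊗[k] A))

theorem isIso_univG : IsIso (univG (A := A) v Ω) := by
  haveI := isIso_univPair (k := k) (A := A) (B := Ω)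
  let T := CoactBr.sp k Ω
  let s : T ⊗ G ⟶ G ⊗ T := lift (snd T G)⁻¹ (fst T G)
  haveI : IsIso s := by
    refine ⟨lift (snd G T) (fst G T)⁻¹, CartesianMonoidalCategory.hom_ext _ _ ?_ ?_,
      CartesianMonoidalCategory.hom_ext _ _ ?_ ?_⟩
    · simp [s]
    · simp [s, GrpObj.comp_inv]
    · simp [s, GrpObj.comp_inv]
    · simp [s]
  have h : univG (A := A) v Ω = univPair k A Ω ≫ (𝟙 T ⊗ₘ v.inv) ≫ s := by
    rw [univG, univPair, lift_map_assoc, comp_lift, GrpObj.comp_inv, lift_snd, lift_fst, Category.comp_id]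
  rw [h]
  infer_instance

include hr in
theorem univG_psi (x : B →ₐ[k] Ω) :
    univG (A := A) v Ω ≫ GIT.psi a (CoactBr.pt x ≫ u.inv) =
      lift (CoactBr.pt (orbitHom x) ≫ u.inv)
        (CoactBr.pt (Algebra.TensorProduct.includeLeft : Ω →ₐ[k] Ω ⊗[k] A)) := by
  refine CartesianMonoidalCategory.hom_ext _ _ ?_ ?_
  · rw [GIT.psi, Category.assoc, lift_fst, lift_fst, univG, lift_whiskerLeft_assoc, ← Category.assoc (CoactBr.pt _),
      ← CoactBr.pt_comp, ← cancel_mono u.hom, Category.assoc, ← lift_conjAct, ← hr, CoactBr.lift_pt_ract,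
      Category.assoc, Iso.inv_hom_id, Category.comp_id, orbitHom]
    congr 1
    congr 1
    exact Algebra.TensorProduct.ext' fun p c => by simp
  · rw [GIT.psi, Category.assoc, lift_snd, lift_snd, univG, lift_snd]

variable {C : Type u} [CommRing C] [Algebra C B] [Algebra k C] [IsScalarTower k C B]
  (hC : IsInvRing k A B C) {α : A →ₗ[k] k} (hα : H20Comod.IsIntegral α) (h1 : α 1 = 1)

include hC hα h1 in
/-- Two points of a fibre with closed orbits have meeting orbits. -/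
theorem exists_orbit_meet {Ω : Type u} [Field Ω] [Algebra k Ω] (x₁ x₂ : B →ₐ[k] Ω) [Algebra C Ω]
    [IsScalarTower k C Ω] (e₁ : ∀ c, x₁ (algebraMap C B c) = algebraMap C Ω c)
    (e₂ : ∀ c, x₂ (algebraMap C B c) = algebraMap C Ω c)
    (x₁' x₂' : Ω ⊗[C] B →ₐ[k] Ω) (h₁ : ∀ w b, x₁' (w ⊗ₜ[C] b) = w * x₁ b)
    (h₂ : ∀ w b, x₂' (w ⊗ₜ[C] b) = w * x₂ b)
    (hc₁ : letI := bcComod hC Ω; haveI := isCoactAlg_bcComod hC Ω
      IsClosed (Set.range (PrimeSpectrum.comap (orbitHom (A := A) x₁').toRingHom)))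
    (hc₂ : letI := bcComod hC Ω; haveI := isCoactAlg_bcComod hC Ω
      IsClosed (Set.range (PrimeSpectrum.comap (orbitHom (A := A) x₂').toRingHom))) :
    letI := bcComod hC Ω; haveI := isCoactAlg_bcComod hC Ω
    ∃ Q₁ Q₂ : PrimeSpectrum (Ω ⊗[k] A), PrimeSpectrum.comap (orbitHom (A := A) x₁').toRingHom Q₁ =
      PrimeSpectrum.comap (orbitHom (A := A) x₂').toRingHom Q₂ := by
  letI := bcComod hC Ω
  haveI := isCoactAlg_bcComod hC Ω
  by_contra hne
  push Not at hne
  have hd : Disjoint (Set.range (PrimeSpectrum.comap (orbitHom (A := A) x₁').toRingHom))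
      (Set.range (PrimeSpectrum.comap (orbitHom (A := A) x₂').toRingHom)) := by
    rw [Set.disjoint_left]
    rintro _ ⟨Q₁, rfl⟩ ⟨Q₂, h⟩
    exact hne Q₁ Q₂ h.symm
  obtain ⟨f, hf, hf₁, hf₂⟩ := exists_invariant_separating (k := k) (A := A) (B := Ω ⊗[C] B) hα h1 hc₁ hc₂ hd
    (fun P => comap_coact_mem_range_orbit x₁' P) (fun P => comap_coact_mem_range_orbit x₂' P)
  obtain ⟨w, rfl⟩ := mem_range_of_invariant hC Ω hα h1 hf
  let ev : Ω ⊗[k] A →ₐ[k] Ω :=
    Algebra.TensorProduct.lift (AlgHom.id k Ω) ((Algebra.ofId k Ω).comp (Bialgebra.counitAlgHom k A))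
      fun _ _ => .all _ _
  let Q : PrimeSpectrum (Ω ⊗[k] A) := ⟨RingHom.ker ev.toRingHom, RingHom.ker_isPrime _⟩
  have hval : ∀ (x : B →ₐ[k] Ω) (x' : Ω ⊗[C] B →ₐ[k] Ω), (∀ w b, x' (w ⊗ₜ[C] b) = w * x b) →
      ev (orbitHom (A := A) x' (w ⊗ₜ[C] 1)) = w := by
    intro x x' hx
    rw [orbitHom, AlgHom.comp_apply,
      show GLin.coactAlgHom k A (Ω ⊗[C] B) (w ⊗ₜ[C] 1) = (w ⊗ₜ[C] 1) ⊗ₜ[k] (1 : A) from
        tmul_one_mem_invariants hC Ω w]
    simp [ev, hx]
  have hw : w = 0 := by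
    have : ev (orbitHom (A := A) x₁' (w ⊗ₜ[C] 1)) = 0 := hf₁ ⟨Q, rfl⟩ rfl
    rwa [hval x₁ x₁' h₁] at this
  have h2 : ev (orbitHom (A := A) x₂' (1 - w ⊗ₜ[C] 1)) = 0 := hf₂ ⟨Q, rfl⟩ rfl
  rw [map_sub, map_sub, hval x₂ x₂' h₂, map_one, map_one, hw, sub_zero] at h2
  exact one_ne_zero h2

include hr hC hα h1 in
/-- For a closed action, the orbits of two geometric points of a fibre of the quotient map meet. -/
theorem exists_psi_eq (hcl : GIT.IsClosedAction a) {Ω : Type u} [Field Ω] [IsAlgClosed Ω] [Algebra k Ω]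
    (y₁ y₂ : CoactBr.sp k Ω ⟶ X) (hy : y₁ ≫ quotMap (C := C) u = y₂ ≫ quotMap (C := C) u) :
    ∃ (L : Type u) (_ : Field L) (_ : Algebra k L) (w₁ w₂ : CoactBr.sp k L ⟶ G ⊗ CoactBr.sp k Ω),
      w₁ ≫ GIT.psi a y₁ = w₂ ≫ GIT.psi a y₂ := by
  obtain ⟨x₁, hx₁⟩ := H20Red.eq_pt_of_isoSpec (y₁ ≫ u.hom)
  obtain ⟨x₂, hx₂⟩ := H20Red.eq_pt_of_isoSpec (y₂ ≫ u.hom)
  have hxC : x₁.comp (IsScalarTower.toAlgHom k C B) = x₂.comp (IsScalarTower.toAlgHom k C B) := by
    apply CoactBr.pt_injective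
    rw [CoactBr.pt_comp, CoactBr.pt_comp, hx₁, hx₂, Category.assoc, Category.assoc]
    exact hy
  letI : Algebra C Ω := (x₁.toRingHom.comp (algebraMap C B)).toAlgebra
  haveI : IsScalarTower k C Ω := IsScalarTower.of_algebraMap_eq fun r => by
    show _ = x₁ (algebraMap C B (algebraMap k C r))
    rw [← IsScalarTower.algebraMap_apply, AlgHom.commutes]
  have e₁ : ∀ c, x₁ (algebraMap C B c) = algebraMap C Ω c := fun _ => rfl
  have e₂ : ∀ c, x₂ (algebraMap C B c) = algebraMap C Ω c := fun c => (AlgHom.congr_fun hxC c).symm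
  obtain ⟨x₁', h₁⟩ := exists_lift_point (k := k) (C := C) x₁ e₁
  obtain ⟨x₂', h₂⟩ := exists_lift_point (k := k) (C := C) x₂ e₂
  letI := bcComod hC Ω
  haveI := isCoactAlg_bcComod hC Ω
  let incR : B →ₐ[k] Ω ⊗[C] B := (Algebra.TensorProduct.includeRight : B →ₐ[C] Ω ⊗[C] B).restrictScalars k
  let incL : Ω →ₐ[k] Ω ⊗[C] B := Algebra.TensorProduct.includeLeft
  have horb : ∀ (x : B →ₐ[k] Ω) (x' : Ω ⊗[C] B →ₐ[k] Ω), (∀ w b, x' (w ⊗ₜ[C] b) = w * x b) →
      (orbitHom (A := A) x').comp incR = orbitHom (A := A) x ∧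
        (orbitHom (A := A) x').comp incL = Algebra.TensorProduct.includeLeft := by
    intro x x' hx
    constructor
    · refine AlgHom.ext fun b => ?_
      show Algebra.TensorProduct.map x' (AlgHom.id k A) (bcHom hC Ω ((1 : Ω) ⊗ₜ[C] b)) = orbitHom (A := A) x b
      rw [bcHom_tmul, ← Algebra.TensorProduct.one_def, ← Algebra.TensorProduct.one_def, _root_.one_mul, orbitHom,
        AlgHom.comp_apply]
      induction GLin.coactAlgHom k A B b using TensorProduct.induction_on with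
      | zero => simp
      | tmul p c => simp [hx]
      | add s t hs ht => simp only [map_add, hs, ht]
    · refine AlgHom.ext fun w => ?_
      show Algebra.TensorProduct.map x' (AlgHom.id k A) (bcHom hC Ω (w ⊗ₜ[C] (1 : B))) = w ⊗ₜ[k] (1 : A)
      rw [tmul_one_mem_invariants hC Ω w]
      simp [hx]
  let J : CoactBr.sp k (Ω ⊗[C] B) ⟶ X ⊗ CoactBr.sp k Ω := lift (CoactBr.pt incR ≫ u.inv) (CoactBr.pt incL)
  have hJ : Function.Injective J.left := by
    let m : B ⊗[k] Ω →ₐ[k] Ω ⊗[C] B := Algebra.TensorProduct.lift incR incL fun _ _ => .all _ _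
    have hm : Function.Surjective m := by
      intro t
      induction t using TensorProduct.induction_on with
      | zero => exact ⟨0, map_zero _⟩
      | tmul w b => exact ⟨b ⊗ₜ[k] w, by simp [m, incR, incL, Algebra.TensorProduct.tmul_mul_tmul]⟩
      | add s t hs ht =>
        obtain ⟨p, rfl⟩ := hs
        obtain ⟨q, rfl⟩ := ht
        exact ⟨p + q, map_add _ _ _⟩
    have hJ' : J = CoactBr.pt m ≫ univPair k Ω B ≫ (u.inv ⊗ₘ 𝟙 (CoactBr.sp k Ω)) := by
      rw [← Category.assoc, ← lift_pt_pt_eq, lift_map, Category.comp_id]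
    haveI := isIso_univPair (k := k) (A := Ω) (B := B)
    haveI : IsIso (univPair k Ω B ≫ (u.inv ⊗ₘ 𝟙 (CoactBr.sp k Ω))).left :=
      inferInstanceAs (IsIso ((Over.forget _).map (univPair k Ω B ≫ (u.inv ⊗ₘ 𝟙 (CoactBr.sp k Ω)))))
    intro p q h
    rw [hJ', Over.comp_left, Scheme.Hom.comp_apply, Scheme.Hom.comp_apply] at h
    exact PrimeSpectrum.comap_injective_of_surjective _ hm
      ((univPair k Ω B ≫ (u.inv ⊗ₘ 𝟙 (CoactBr.sp k Ω))).left.isOpenEmbedding.injective h)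
  have hy₁ : y₁ = CoactBr.pt x₁ ≫ u.inv := by rw [hx₁, Category.assoc, Iso.hom_inv_id, Category.comp_id]
  have hy₂ : y₂ = CoactBr.pt x₂ ≫ u.inv := by rw [hx₂, Category.assoc, Iso.hom_inv_id, Category.comp_id]
  have hpsi : ∀ (x : B →ₐ[k] Ω) (x' : Ω ⊗[C] B →ₐ[k] Ω), (∀ w b, x' (w ⊗ₜ[C] b) = w * x b) →
      CoactBr.pt (orbitHom (A := A) x') ≫ J = univG (A := A) v Ω ≫ GIT.psi a (CoactBr.pt x ≫ u.inv) := by
    intro x x' hx
    rw [univG_psi a v u hr Ω x, comp_lift, ← CoactBr.pt_comp, ← Category.assoc, ← CoactBr.pt_comp,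
      (horb x x' hx).1, (horb x x' hx).2]
  haveI := isIso_univG (k := k) (A := A) v Ω
  haveI : IsIso (univG (A := A) v Ω).left := inferInstanceAs (IsIso ((Over.forget _).map (univG (A := A) v Ω)))
  have hclo : ∀ (x : B →ₐ[k] Ω) (x' : Ω ⊗[C] B →ₐ[k] Ω), (∀ w b, x' (w ⊗ₜ[C] b) = w * x b) →
      IsClosed (Set.range (PrimeSpectrum.comap (orbitHom (A := A) x').toRingHom)) := by
    intro x x' hx
    have hc := (hcl Ω (CoactBr.sp k Ω) (Iso.refl _) (CoactBr.pt x ≫ u.inv)).preimage J.left.continuous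
    suffices e : Set.range (PrimeSpectrum.comap (orbitHom (A := A) x').toRingHom) =
        J.left ⁻¹' Set.range (GIT.psi a (CoactBr.pt x ≫ u.inv)).left by
      rw [e]; exact hc
    ext q
    have hsq := congrArg (fun m : CoactBr.sp k (Ω ⊗[k] A) ⟶ X ⊗ CoactBr.sp k Ω => m.left) (hpsi x x' hx)
    rw [Over.comp_left, Over.comp_left] at hsq
    have hpt := fun r => congrArg (fun m : (CoactBr.sp k (Ω ⊗[k] A)).left ⟶ _ => m r) hsq
    simp only [Scheme.Hom.comp_apply] at hpt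
    constructor
    · rintro ⟨r, rfl⟩
      exact ⟨_, (hpt r).symm⟩
    · rintro ⟨w, hw⟩
      obtain ⟨r, rfl⟩ := (univG (A := A) v Ω).left.surjective w
      exact ⟨r, hJ ((hpt r).trans hw)⟩
  obtain ⟨Q₁, Q₂, hQ⟩ := exists_orbit_meet hC hα h1 x₁ x₂ e₁ e₂ x₁' x₂' h₁ h₂ (hclo x₁ x₁' h₁) (hclo x₂ x₂' h₂)
  obtain ⟨L, _, _, F₁, F₂, -, -, hF⟩ := exists_hom_pair (orbitHom (A := A) x₁') (orbitHom (A := A) x₂') Q₁ Q₂ hQ
  refine ⟨L, inferInstance, inferInstance, CoactBr.pt F₁ ≫ univG (A := A) v Ω, CoactBr.pt F₂ ≫ univG (A := A) v Ω, ?_⟩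
  rw [hy₁, hy₂, Category.assoc, Category.assoc, ← hpsi x₁ x₁' h₁, ← hpsi x₂ x₂' h₂, ← Category.assoc,
    ← CoactBr.pt_comp, hF, CoactBr.pt_comp, Category.assoc]

include hr hC hα h1 in
/-- For a closed action, the orbits are the fibres of the quotient map. -/
theorem surjective_psiY_of_isClosedAction {Y : Over (Spec (CommRingCat.of k))} {φ : X ⟶ Y}
    (hi : GIT.IsInvariant a φ) (χ : Y ⟶ CoactBr.sp k C) (hφ : φ ≫ χ = quotMap u)
    (hcl : GIT.IsClosedAction a) : Function.Surjective (GIT.PsiY a φ hi).base := by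
  intro z
  let P := Limits.pullback φ.left φ.left
  let Ω := AlgebraicClosure (P.residueField z)
  obtain ⟨ζ, hζ⟩ : ∃ ζ : Spec (CommRingCat.of Ω) ⟶ P, ∀ p, ζ p = z :=
    ⟨Spec.map (CommRingCat.ofHom (algebraMap (P.residueField z) Ω)) ≫ P.fromSpecResidueField z, fun p => by
      rw [Scheme.Hom.comp_apply]; exact P.fromSpecResidueField_apply z _⟩
  obtain ⟨τ, hτ⟩ := Spec.map_surjective (ζ ≫ Limits.pullback.fst φ.left φ.left ≫ X.hom)
  letI : Algebra k Ω := τ.hom.toAlgebra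
  have hT : (CoactBr.sp k Ω).hom = ζ ≫ Limits.pullback.fst φ.left φ.left ≫ X.hom := hτ
  let y₁ : CoactBr.sp k Ω ⟶ X := Over.homMk (ζ ≫ Limits.pullback.fst φ.left φ.left) (by rw [hT, Category.assoc])
  let y₂ : CoactBr.sp k Ω ⟶ X := Over.homMk (ζ ≫ Limits.pullback.snd φ.left φ.left) (by
    rw [hT, Category.assoc, ← Over.w φ, Limits.pullback.condition_assoc])
  have hy : y₁ ≫ quotMap (C := C) u = y₂ ≫ quotMap (C := C) u := by
    rw [← hφ, ← Category.assoc, ← Category.assoc]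
    congr 1
    refine Over.OverMorphism.ext ?_
    show (ζ ≫ _) ≫ φ.left = (ζ ≫ _) ≫ φ.left
    rw [Category.assoc, Category.assoc, Limits.pullback.condition]
  obtain ⟨L, _, _, w₁, w₂, hw⟩ := exists_psi_eq a v u hr hC hα h1 hcl y₁ y₂ hy
  obtain ⟨r⟩ : Nonempty ↥(Spec (CommRingCat.of L)) := inferInstance
  obtain ⟨p, hp⟩ := mem_range_psiY a hi y₁ y₂ ζ rfl rfl w₁ w₂ hw r
  exact ⟨p, hp.trans (hζ _)⟩

end

end Groth.Agent.H20LRQ
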