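import Groth.Agent.H20LRQ.Core
import Groth.Agent.H20LRQ.Bridge

/-!
Quotients of affine schemes by linearly reductive groups: the spectrum of the invariants is a universal
categorical quotient and the projection is universally submersive.
-/

set_option autoImplicit false
set_option linter.style.haveILetI false
set_option linter.unusedSectionVars false
set_option backward.isDefEq.respectTransparency false

universe u

open CategoryTheory Limits MonoidalCategory CartesianMonoidalCategory MonObj GrpObj AlgebraicGeometry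
open scoped TensorProduct

namespace Groth.Agent.H20LRQ

noncomputable section

/-- Morphisms descend along `p` if they do so uniquely over every affine open. -/
theorem existsUnique_of_local {X Y Z : Scheme.{u}} (p : X ⟶ Y) (ψ : X ⟶ Z)
    (hex : ∀ U : Y.Opens, IsAffineOpen U → ∃ χ : U.toScheme ⟶ Z, (p ∣_ U) ≫ χ = (p ⁻¹ᵁ U).ι ≫ ψ)
    (hepi : ∀ U : Y.Opens, IsAffineOpen U → Epi (p ∣_ U)) :
    ∃! χ : Y ⟶ Z, p ≫ χ = ψ := by
  choose χ hχ using hex
  have hres : ∀ (U V : Y.Opens) (hU : IsAffineOpen U) (hV : IsAffineOpen V) (hVU : V ≤ U),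
      Y.homOfLE hVU ≫ χ U hU = χ V hV := by
    intro U V hU hV hVU
    haveI := hepi V hV
    rw [← cancel_epi (p ∣_ V), hχ V hV]
    have h : (p ∣_ V) ≫ Y.homOfLE hVU = X.homOfLE (p.preimage_mono hVU) ≫ (p ∣_ U) := by
      rw [← cancel_mono U.ι, Category.assoc, Category.assoc, Scheme.homOfLE_ι, morphismRestrict_ι,
        morphismRestrict_ι, Scheme.homOfLE_ι_assoc]
    rw [reassoc_of% h, hχ U hU, Scheme.homOfLE_ι_assoc]
  let c : Y.OpenCover := Scheme.openCoverOfIsOpenCover Y (fun U : Y.affineOpens => U.1)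
    (Scheme.isBasis_affineOpens Y).isOpenCover
  have hagree : ∀ U V : Y.affineOpens, pullback.fst U.1.ι V.1.ι ≫ χ U.1 U.2 = pullback.snd U.1.ι V.1.ι ≫ χ V.1 V.2 := by
    intro U V
    let P := pullback U.1.ι V.1.ι
    refine (P.openCoverOfIsOpenCover _ (Scheme.isBasis_affineOpens P).isOpenCover).hom_ext _ _ fun W => ?_
    let j : P ⟶ Y := pullback.fst U.1.ι V.1.ι ≫ U.1.ι
    haveI : IsOpenImmersion j := inferInstance
    have hW : IsAffineOpen (j ''ᵁ W.1) := W.2.image_of_isOpenImmersion j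
    have hWU : j ''ᵁ W.1 ≤ U.1 := by
      rintro _ ⟨z, -, rfl⟩
      have := (pullback.fst U.1.ι V.1.ι z).2
      simpa [j] using this
    have hj : j = pullback.snd U.1.ι V.1.ι ≫ V.1.ι := pullback.condition
    have hWV : j ''ᵁ W.1 ≤ V.1 := by
      rintro _ ⟨z, -, rfl⟩
      have := (pullback.snd U.1.ι V.1.ι z).2
      simpa [hj] using this
    change Scheme.Opens.ι (X := P) W.1 ≫ pullback.fst U.1.ι V.1.ι ≫ χ U.1 U.2 = Scheme.Opens.ι (X := P) W.1 ≫ pullback.snd U.1.ι V.1.ι ≫ χ V.1 V.2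
    have e1 : Scheme.Opens.ι (X := P) W.1 ≫ pullback.fst U.1.ι V.1.ι = (j.isoImage W.1).hom ≫ Y.homOfLE hWU := by
      rw [← cancel_mono U.1.ι, Category.assoc, Category.assoc, Scheme.homOfLE_ι, Scheme.Hom.isoImage_hom_ι]
    have e2 : Scheme.Opens.ι (X := P) W.1 ≫ pullback.snd U.1.ι V.1.ι = (j.isoImage W.1).hom ≫ Y.homOfLE hWV := by
      rw [← cancel_mono V.1.ι, Category.assoc, Category.assoc, Scheme.homOfLE_ι, Scheme.Hom.isoImage_hom_ι, hj]
    rw [reassoc_of% e1, reassoc_of% e2, hres U.1 _ U.2 hW hWU, hres V.1 _ V.2 hW hWV]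
  let χ₀ : Y ⟶ Z := c.glueMorphisms (fun U => χ U.1 U.2) hagree
  have hι : ∀ U : Y.affineOpens, U.1.ι ≫ χ₀ = χ U.1 U.2 := fun U => c.ι_glueMorphisms _ _ U
  refine ⟨χ₀, ?_, fun χ' hχ' => ?_⟩
  · let cX : X.OpenCover := Scheme.openCoverOfIsOpenCover X (fun U : Y.affineOpens => p ⁻¹ᵁ U.1)
      (TopologicalSpace.IsOpenCover.comap (Scheme.isBasis_affineOpens Y).isOpenCover ⟨p, p.continuous⟩)
    refine cX.hom_ext _ _ fun U => ?_
    change (p ⁻¹ᵁ U.1).ι ≫ p ≫ χ₀ = (p ⁻¹ᵁ U.1).ι ≫ ψ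
    rw [← morphismRestrict_ι_assoc, hι, hχ]
  · refine c.hom_ext _ _ fun U => ?_
    change U.1.ι ≫ χ' = U.1.ι ≫ χ₀
    rw [hι]
    haveI := hepi U.1 U.2
    rw [← cancel_epi (p ∣_ U.1), hχ, morphismRestrict_ι_assoc, hχ']

variable {k : Type u} [Field k] {A : Type u} [CommRing A] [HopfAlgebra k A]
variable {B : Type u} [CommRing B] [Algebra k B] [HopfRep.Comod k A B] [GLin.IsCoactAlg k A B]

/-- Invariant morphisms out of an affine scheme descend to the spectrum of the invariants. -/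
theorem existsUnique_desc_spec {C : Type u} [CommRing C] [Algebra C B] [Algebra k C] [IsScalarTower k C B]
    (hC : IsInvRing k A B C) {α : A →ₗ[k] k} (hα : H20Comod.IsIntegral α) (h1 : α 1 = 1) {Z : Scheme.{u}}
    (ψ : Spec (CommRingCat.of B) ⟶ Z)
    (hψ : Spec.map (CommRingCat.ofHom (GLin.coactAlgHom k A B).toRingHom) ≫ ψ =
      Spec.map (CommRingCat.ofHom (Algebra.TensorProduct.includeLeftRingHom : B →+* B ⊗[k] A)) ≫ ψ) :
    ∃! χ : Spec (CommRingCat.of C) ⟶ Z, Spec.map (CommRingCat.ofHom (algebraMap C B)) ≫ χ = ψ := by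
  have htame : ∃ β : A →ₗ[k] B, Hoch.IsComodHom A β ∧ β 1 = 1 :=
    ⟨Algebra.linearMap k B ∘ₗ α, H20Comod.isComodHom_algebraMap_comp
      (fun a => (H20Comod.rTensor_comul_eq_of_isIntegral hα a)), by simp [h1]⟩
  obtain ⟨χ, hχ, -⟩ := H20Comod.CatQuot.existsUnique_desc ψ hψ htame
  let θ : C →+* GLin.invariants k A B := (algebraMap C B).codRestrict _ hC.fixed
  have hθ : Function.Bijective θ := by
    refine ⟨fun x y h => hC.injective (congrArg Subtype.val h), fun b => ?_⟩
    obtain ⟨c, hc⟩ := hC.surjective b.1 b.2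
    exact ⟨c, Subtype.ext hc⟩
  let θ' : GLin.invariants k A B →+* C := (RingEquiv.ofBijective θ hθ).symm.toRingHom
  have hθ' : (algebraMap C B).comp θ' = algebraMap (GLin.invariants k A B) B :=
    RingHom.ext fun b => congrArg Subtype.val ((RingEquiv.ofBijective θ hθ).apply_symm_apply b)
  obtain ⟨E, hE1, -⟩ := exists_retraction hC hα h1
  haveI := H20Comod.CatQuot.epi_specMap E hE1
  refine ⟨Spec.map (CommRingCat.ofHom θ') ≫ χ, ?_, fun χ' hχ' => ?_⟩
  · show Spec.map _ ≫ Spec.map _ ≫ χ = ψ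
    rw [← Spec.map_comp_assoc, ← CommRingCat.ofHom_comp, hθ']
    exact hχ
  · rw [← cancel_epi (Spec.map (CommRingCat.ofHom (algebraMap C B))), hχ', ← Spec.map_comp_assoc,
      ← CommRingCat.ofHom_comp, hθ']
    exact hχ.symm

section Scheme

variable {G X : Over (Spec (CommRingCat.of k))} [GrpObj G] (a : AlgGrp.Action G X)
  (v : G ≅ CoactBr.sp k A) [IsMonHom v.inv] (u : X ≅ CoactBr.sp k B)
  (hr : CoactBr.ract k A B = conjAct a v u)

/-- The universal point `(g⁻¹, x)` of `G ×ₖ X`. -/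
def univPt : CoactBr.sp k (B ⊗[k] A) ⟶ G ⊗ X :=
  lift (CoactBr.pt (Algebra.TensorProduct.includeRight : A →ₐ[k] B ⊗[k] A) ≫ v.inv)⁻¹
    (CoactBr.pt (Algebra.TensorProduct.includeLeft : B →ₐ[k] B ⊗[k] A) ≫ u.inv)

theorem isIso_univPt : IsIso (univPt (A := A) (B := B) v u) := by
  haveI := isIso_univPair (k := k) (A := A) (B := B)
  let s : X ⊗ G ⟶ G ⊗ X := lift (snd X G)⁻¹ (fst X G)
  let t : G ⊗ X ⟶ X ⊗ G := lift (snd G X) (fst G X)⁻¹
  haveI : IsIso s := by
    refine ⟨t, CartesianMonoidalCategory.hom_ext _ _ ?_ ?_, CartesianMonoidalCategory.hom_ext _ _ ?_ ?_⟩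
    · simp [s, t]
    · simp [s, t, GrpObj.comp_inv]
    · simp [s, t, GrpObj.comp_inv]
    · simp [s, t]
  have h : univPt (A := A) (B := B) v u = univPair k A B ≫ (u.inv ⊗ₘ v.inv) ≫ s := by
    rw [univPt, univPair, lift_map_assoc, comp_lift, GrpObj.comp_inv, lift_snd, lift_fst]
  rw [h]
  infer_instance

include hr in
theorem univPt_act :
    univPt (A := A) (B := B) v u ≫ a.act = CoactBr.pt (GLin.coactAlgHom k A B) ≫ u.inv := by
  rw [← univPair_ract, hr, univPair, lift_conjAct, univPt, Category.assoc, Category.assoc, Iso.hom_inv_id,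
    Category.comp_id]

theorem univPt_snd :
    univPt (A := A) (B := B) v u ≫ snd G X =
      CoactBr.pt (Algebra.TensorProduct.includeLeft : B →ₐ[k] B ⊗[k] A) ≫ u.inv :=
  lift_snd _ _

include hr in
theorem isInvariant_iff {Z : Over (Spec (CommRingCat.of k))} (ψ : X ⟶ Z) :
    GIT.IsInvariant a ψ ↔ CoactBr.pt (GLin.coactAlgHom k A B) ≫ u.inv ≫ ψ =
      CoactBr.pt (Algebra.TensorProduct.includeLeft : B →ₐ[k] B ⊗[k] A) ≫ u.inv ≫ ψ := by
  haveI := isIso_univPt (k := k) (A := A) (B := B) (G := G) (X := X) v u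
  rw [← Category.assoc (CoactBr.pt (GLin.coactAlgHom k A B)), ← univPt_act a v u hr,
    ← Category.assoc (CoactBr.pt (Algebra.TensorProduct.includeLeft : B →ₐ[k] B ⊗[k] A)), ← univPt_snd v u,
    Category.assoc, Category.assoc, cancel_epi]
  rfl

variable {C : Type u} [CommRing C] [Algebra C B] [Algebra k C] [IsScalarTower k C B]

/-- The quotient morphism. -/
def quotMap : X ⟶ CoactBr.sp k C := u.hom ≫ CoactBr.pt (IsScalarTower.toAlgHom k C B)

include hr in
theorem isInvariant_quotMap (hC : IsInvRing k A B C) : GIT.IsInvariant a (quotMap (C := C) u) := by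
  rw [isInvariant_iff a v u hr, quotMap, Iso.inv_hom_id_assoc, ← CoactBr.pt_comp, ← CoactBr.pt_comp]
  congr 1
  exact AlgHom.ext fun c => hC.fixed c

include hr in
theorem isCatQuot_quotMap (hC : IsInvRing k A B C) {α : A →ₗ[k] k} (hα : H20Comod.IsIntegral α) (h1 : α 1 = 1) :
    GIT.IsCatQuot a (quotMap (C := C) u) := by
  refine ⟨isInvariant_quotMap a v u hr hC, fun Z ψ hψ => ?_⟩
  rw [isInvariant_iff a v u hr] at hψ
  obtain ⟨χ, hχ, huniq⟩ := existsUnique_desc_spec hC hα h1 (u.inv.left ≫ ψ.left) (congrArg CommaMorphism.left hψ)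
  obtain ⟨E, hE1, -⟩ := exists_retraction hC hα h1
  haveI := H20Comod.CatQuot.epi_specMap E hE1
  have hover : χ ≫ Z.hom = Spec.map (CommRingCat.ofHom (algebraMap k C)) := by
    rw [← cancel_epi (Spec.map (CommRingCat.ofHom (algebraMap C B))), reassoc_of% hχ, Over.w ψ, Over.w u.inv,
      ← Spec.map_comp, ← CommRingCat.ofHom_comp, ← IsScalarTower.algebraMap_eq]
    rfl
  refine ⟨Over.homMk χ hover, ?_, fun χ' hχ' => Over.OverMorphism.ext (huniq _ ?_)⟩
  · refine Over.OverMorphism.ext ?_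
    show u.hom.left ≫ Spec.map (CommRingCat.ofHom (algebraMap C B)) ≫ χ = ψ.left
    rw [hχ, ← Category.assoc, ← Over.comp_left, Iso.hom_inv_id, Over.id_left, Category.id_comp]
  · have h := congrArg (fun m : X ⟶ Z => u.inv.left ≫ m.left) hχ'
    simp only [quotMap, Over.comp_left] at h
    rw [← h, ← Category.assoc u.inv.left, ← Category.assoc, ← Over.comp_left, Iso.inv_hom_id, Over.id_left,
      Category.id_comp]
    rfl

/-- A closed set whose preimage under the base change is stable has closed image. -/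
theorem isClosed_of_preimage (hC : IsInvRing k A B C) {α : A →ₗ[k] k} (hα : H20Comod.IsIntegral α) (h1 : α 1 = 1)
    {W : Set (PrimeSpectrum C)} (hW : IsClosed (PrimeSpectrum.comap (algebraMap C B) ⁻¹' W)) : IsClosed W := by
  have hsurj : Function.Surjective (PrimeSpectrum.comap (algebraMap C B)) := by
    obtain ⟨E, hE1, -⟩ := exists_retraction hC hα h1
    exact H20Comod.CatQuot.surjective_specMap E hE1
  rw [← Set.image_preimage_eq W hsurj]
  refine isClosed_image hC hα h1 hW fun P hP => ?_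
  have hcomp : (GLin.coactAlgHom k A B).toRingHom.comp (algebraMap C B) =
      (Algebra.TensorProduct.includeLeftRingHom : B →+* B ⊗[k] A).comp (algebraMap C B) :=
    RingHom.ext fun c => hC.fixed c
  show PrimeSpectrum.comap (algebraMap C B) (PrimeSpectrum.comap _ P) ∈ W
  rw [← Function.comp_apply (f := PrimeSpectrum.comap (algebraMap C B)), ← PrimeSpectrum.comap_comp, hcomp,
    PrimeSpectrum.comap_comp, Function.comp_apply]
  exact hP

end Scheme

end

end Groth.Agent.H20LRQ
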